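import Cfsg.Agent.U62Three.K.Z.Transport
import Cfsg.Agent.PSp43Amalgam.Setup

/-!
# The action on the first block modulo the centre
-/

set_option autoImplicit false
set_option linter.unusedSectionVars false

open Subgroup Matrix

namespace Cfsg.Agent.U62Three.K

universe u

variable {G : Type u} [Group G] [Finite G] {z : G} {Q : Subgroup G} (D : Facts z Q)

/-- The elements of `C(z)` fixing the first block. -/
def blk0 : Subgroup G where
  carrier := {g | g ∈ centralizer ({z} : Set G) ∧ ∀ x, x ∈ D.Qi 0 ↔ g * x * g⁻¹ ∈ D.Qi 0}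
  one_mem' := ⟨one_mem _, fun x => by simp⟩
  mul_mem' := fun {g h} hg hh => ⟨mul_mem hg.1 hh.1, fun x => by
    rw [hh.2 x, hg.2 (h * x * h⁻¹), show g * (h * x * h⁻¹) * g⁻¹ = g * h * x * (g * h)⁻¹ by group]⟩
  inv_mem' := fun {g} hg => ⟨inv_mem hg.1, fun x => by
    rw [hg.2 (g⁻¹ * x * g⁻¹⁻¹), show g * (g⁻¹ * x * g⁻¹⁻¹) * g⁻¹ = x by group]⟩

theorem mem_blk0 {g : G} : g ∈ blk0 D ↔
    g ∈ centralizer ({z} : Set G) ∧ ∀ x, x ∈ D.Qi 0 ↔ g * x * g⁻¹ ∈ D.Qi 0 := Iff.rfl

theorem conj_zpow {g : G} (hg : g ∈ centralizer ({z} : Set G)) {w : G} (hw : w ∈ zpowers z) :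
    g * w * g⁻¹ = w := by
  obtain ⟨m, rfl⟩ := mem_zpowers_iff.1 hw
  rw [((show Commute g z from mem_centralizer_singleton_iff.1 hg).zpow_right m).eq, mul_inv_cancel_right]

theorem zpow_val (H : Hyp z Q) {w : G} (hw : w ∈ zpowers z) : ∃ a : ZMod 3, w = z ^ a.val := by
  rcases zpow_cases H hw with e | e | e
  · exact ⟨0, by rw [e, ZMod.val_zero, pow_zero]⟩
  · exact ⟨1, by rw [e, ZMod.val_one, pow_one]⟩
  · exact ⟨2, by rw [e]; rfl⟩

theorem z_pow_add (H : Hyp z Q) (a b : ZMod 3) : z ^ (a + b).val = z ^ a.val * z ^ b.val := by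
  rw [← pow_add, ZMod.val_add, ← pow_eq_pow_mod _ (z_cube H)]

theorem z_pow_inj (H : Hyp z Q) {a b : ZMod 3} (h : z ^ a.val = z ^ b.val) : a = b := by
  refine ZMod.val_injective 3 (pow_injOn_Iio_orderOf (x := z) ?_ ?_ h)
  · rw [Set.mem_Iio, H.oz]; exact ZMod.val_lt a
  · rw [Set.mem_Iio, H.oz]; exact ZMod.val_lt b

/-- Coordinates of the block modulo the centre: a bimultiplicative pairing with the first block. -/
theorem exists_coords (H : Hyp z Q) : ∃ (u v : G) (c : G → ZMod 3 × ZMod 3),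
    u ∈ D.Qi 0 ∧ v ∈ D.Qi 0 ∧ c u = (1, 0) ∧ c v = (0, 1) ∧
    (∀ x ∈ D.Qi 0, ∀ y ∈ D.Qi 0, c (x * y) = c x + c y) ∧
    (∀ x ∈ D.Qi 0, c x = 0 ↔ x ∈ zpowers z) ∧
    ∀ x ∈ D.Qi 0, ∀ y ∈ D.Qi 0,
      x * y * x⁻¹ * y⁻¹ = z ^ ((c x).1 * (c y).2 - (c x).2 * (c y).1).val := by
  classical
  set u := D.F.j 0 1
  have hu : u ∈ D.Qi 0 := D.j_zero.1
  have huz := j_not_z D H 0 1 (by decide)
  obtain ⟨v0, hv0, hv0e⟩ : ∃ v0 ∈ D.Qi 0, v0 ∉ zpowers z ⊔ zpowers u := by
    by_contra h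
    push Not at h
    refine huz (D.centre 0 u hu fun w hw => ?_)
    have hle : zpowers z ⊔ zpowers u ≤ centralizer ({u} : Set G) := sup_le
      (zpowers_le.2 (mem_centralizer_singleton_iff.2 (z_comm_Q H (D.le 0 hu)).eq))
      (zpowers_le.2 (mem_centralizer_singleton_iff.2 rfl))
    exact (mem_centralizer_singleton_iff.1 (hle (h w hw))).symm
  obtain ⟨e0, he0⟩ := zpow_val H (comm_mem_z H (D.le 0 hu) (D.le 0 hv0))
  have he0' : e0 ≠ 0 := fun e => by
    rw [e, ZMod.val_zero, pow_zero] at he0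
    exact hv0e (cent_in_block D H hu huz hv0 (mul_inv_eq_iff_eq_mul.1 (mul_inv_eq_one.1 he0)))
  set v := v0 ^ e0.val
  have hv : v ∈ D.Qi 0 := pow_mem hv0 _
  have hP0 : ∀ x y : G, x ∈ D.Qi 0 → y ∈ D.Qi 0 → ∃ a : ZMod 3, x * y * x⁻¹ * y⁻¹ = z ^ a.val :=
    fun x y hx hy => zpow_val H (comm_mem_z H (D.le 0 hx) (D.le 0 hy))
  choose! P hP1 using hP0
  have hP : ∀ {x y : G}, x ∈ D.Qi 0 → y ∈ D.Qi 0 → x * y * x⁻¹ * y⁻¹ = z ^ (P x y).val :=
    fun {x y} hx hy => hP1 x y hx hy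
  have padd : ∀ {x y w : G}, x ∈ D.Qi 0 → y ∈ D.Qi 0 → w ∈ D.Qi 0 →
      P x (y * w) = P x y + P x w ∧ P (y * w) x = P y x + P w x := by
    intro x y w hx hy hw
    constructor
    · refine z_pow_inj H ?_
      rw [z_pow_add H, ← hP hx (mul_mem hy hw), ← hP hx hy, ← hP hx hw]
      exact comm_mul_right H (D.le 0 hx) (D.le 0 hy) (D.le 0 hw)
    · refine z_pow_inj H ?_
      rw [z_pow_add H, ← hP (mul_mem hy hw) hx, ← hP hy hx, ← hP hw hx]
      exact comm_mul_left H (D.le 0 hy) (D.le 0 hw) (D.le 0 hx)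
  have pskew : ∀ {x y : G}, x ∈ D.Qi 0 → y ∈ D.Qi 0 → P y x = -P x y := fun {x y} hx hy => by
    refine eq_neg_of_add_eq_zero_left (z_pow_inj H ?_)
    rw [z_pow_add H, ← hP hy hx, ← hP hx hy, ZMod.val_zero, pow_zero]
    group
  have puv : P u v = 1 := by
    have h1 : P u v0 = e0 := z_pow_inj H (by rw [← hP hu hv0, he0])
    have h0 : P u 1 = 0 := z_pow_inj H (by rw [← hP hu (one_mem _), ZMod.val_zero, pow_zero]; group)
    have hn : ∀ n : ℕ, P u (v0 ^ n) = n * e0 := fun n => by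
      induction n with
      | zero => rw [pow_zero, h0, Nat.cast_zero, zero_mul]
      | succ n ih => rw [pow_succ, (padd hu (pow_mem hv0 n) hv0).1, ih, h1, Nat.cast_succ]; ring
    rw [hn, ZMod.natCast_val, ZMod.cast_id', id]
    revert he0'; clear * -; revert e0; decide
  have puu : ∀ {x : G}, x ∈ D.Qi 0 → P x x = 0 := fun {x} hx => z_pow_inj H (by
    rw [← hP hx hx, ZMod.val_zero, pow_zero]; group)
  set c : G → ZMod 3 × ZMod 3 := fun x => (P x v, -P x u)
  have cadd : ∀ x ∈ D.Qi 0, ∀ y ∈ D.Qi 0, c (x * y) = c x + c y := fun x hx y hy => by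
    simp only [c, (padd hv hx hy).2, (padd hu hx hy).2, Prod.mk_add_mk, neg_add]
  have czero : ∀ x ∈ D.Qi 0, c x = 0 ↔ x ∈ zpowers z := by
    intro x hx
    constructor
    · intro h
      simp only [c, Prod.mk_eq_zero, neg_eq_zero] at h
      have com : ∀ {y : G}, y ∈ D.Qi 0 → P x y = 0 → Commute x y := fun {y} hy e => by
        have := hP hx hy
        rw [e, ZMod.val_zero, pow_zero] at this
        exact mul_inv_eq_iff_eq_mul.1 (mul_inv_eq_one.1 this)
      by_contra hxz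
      have h1 := cent_in_block D H hu huz hx (com hu h.2).symm
      have h2 : v ∈ zpowers z ⊔ zpowers x := cent_in_block D H hx hxz hv (com hv h.1)
      have h3 : v ∈ zpowers z ⊔ zpowers u := sup_le le_sup_left (zpowers_le.2 h1) h2
      have hle : zpowers z ⊔ zpowers u ≤ centralizer ({u} : Set G) := sup_le
        (zpowers_le.2 (mem_centralizer_singleton_iff.2 (z_comm_Q H (D.le 0 hu)).eq))
        (zpowers_le.2 (mem_centralizer_singleton_iff.2 rfl))
      have hc : Commute u v := (mem_centralizer_singleton_iff.1 (hle h3)).symm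
      have := hP hu hv
      rw [puv, hc.eq, mul_inv_cancel_right, mul_inv_cancel, ZMod.val_one, pow_one] at this
      exact z_ne H this.symm
    · intro hxz
      have h0 : ∀ {y : G}, y ∈ D.Qi 0 → P x y = 0 := fun {y} hy => z_pow_inj H (by
        have hc : Commute x y := by
          obtain ⟨m, rfl⟩ := mem_zpowers_iff.1 hxz
          exact (z_comm_Q H (D.le 0 hy)).zpow_left m
        rw [← hP hx hy, hc.eq, mul_inv_cancel_right, mul_inv_cancel, ZMod.val_zero, pow_zero])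
      simp only [c, h0 hv, h0 hu, neg_zero, Prod.mk_zero_zero]
  refine ⟨u, v, c, hu, hv, by simp only [c, puv, puu hu, neg_zero],
    by simp only [c, puu hv, pskew hu hv, puv, neg_neg], cadd, czero, fun x hx y hy => ?_⟩
  rw [hP hx hy]
  congr 2
  -- expand in the basis
  have cpow : ∀ w ∈ D.Qi 0, ∀ n : ℕ, c (w ^ n) = n • c w := fun w hw n => by
    induction n with
    | zero => rw [pow_zero, zero_smul]; exact (czero 1 (one_mem _)).2 (one_mem _)
    | succ n ih => rw [pow_succ, cadd _ (pow_mem hw n) _ hw, ih, succ_nsmul]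
  have hbasis : ∀ w ∈ D.Qi 0, ∃ s ∈ zpowers z, w = u ^ (c w).1.val * v ^ (c w).2.val * s := by
    intro w hw
    set b := u ^ (c w).1.val * v ^ (c w).2.val
    have hb : b ∈ D.Qi 0 := mul_mem (pow_mem hu _) (pow_mem hv _)
    have hcb : c b = c w := by
      rw [cadd _ (pow_mem hu _) _ (pow_mem hv _), cpow u hu, cpow v hv,
        show c u = (1, 0) by simp only [c, puv, puu hu, neg_zero],
        show c v = (0, 1) by simp only [c, puu hv, pskew hu hv, puv, neg_neg]]
      refine Prod.ext ?_ ?_ <;> simp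
    refine ⟨b⁻¹ * w, (czero _ (mul_mem (inv_mem hb) hw)).1 ?_, (mul_inv_cancel_left b w).symm⟩
    have h := cadd b hb _ (mul_mem (inv_mem hb) hw)
    rw [mul_inv_cancel_left, hcb] at h
    exact left_eq_add.1 h
  obtain ⟨s, hs, hy'⟩ := hbasis y hy
  have hs0 : P x s = 0 := z_pow_inj H (by
    have hc : Commute s x := by
      obtain ⟨m, rfl⟩ := mem_zpowers_iff.1 hs
      exact (z_comm_Q H (D.le 0 hx)).zpow_left m
    rw [← hP hx (zpow_z_mem D 0 hs), hc.symm.eq, mul_inv_cancel_right, mul_inv_cancel, ZMod.val_zero,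
      pow_zero])
  have hpn : ∀ w ∈ D.Qi 0, ∀ n : ℕ, P x (w ^ n) = n * P x w := fun w hw n => by
    induction n with
    | zero =>
      rw [pow_zero, Nat.cast_zero, zero_mul]
      exact z_pow_inj H (by rw [← hP hx (one_mem _), ZMod.val_zero, pow_zero]; group)
    | succ n ih => rw [pow_succ, (padd hx (pow_mem hw n) hw).1, ih, Nat.cast_succ]; ring
  conv_lhs => rw [hy']
  rw [(padd hx (mul_mem (pow_mem hu _) (pow_mem hv _)) (zpow_z_mem D 0 hs)).1, hs0,
    (padd hx (pow_mem hu _) (pow_mem hv _)).1, hpn u hu, hpn v hv, ZMod.natCast_val, ZMod.natCast_val,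
    ZMod.cast_id', id, id]
  simp only [c]
  ring

/-- The action on the first block modulo the centre, as matrices of determinant one. -/
theorem exists_act0 (H : Hyp z Q) : ∃ f : blk0 D →* PSp43Amalgam.SL3,
    ∀ g : blk0 D, f g = 1 ↔ ∀ x ∈ D.Qi 0, (g : G) * x * (g : G)⁻¹ * x⁻¹ ∈ zpowers z := by
  classical
  obtain ⟨u, v, c, hu, hv, cu, cv, cadd, czero, cP⟩ := exists_coords D H
  have cinv : ∀ x ∈ D.Qi 0, c x⁻¹ = -c x := fun x hx => by
    refine eq_neg_of_add_eq_zero_left ?_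
    rw [← cadd _ (inv_mem hx) _ hx, inv_mul_cancel]
    exact (czero 1 (one_mem _)).2 (one_mem _)
  have cpow : ∀ x ∈ D.Qi 0, ∀ n : ℕ, c (x ^ n) = n • c x := fun x hx n => by
    induction n with
    | zero => rw [pow_zero, zero_smul]; exact (czero 1 (one_mem _)).2 (one_mem _)
    | succ n ih => rw [pow_succ, cadd _ (pow_mem hx n) _ hx, ih, succ_nsmul]
  have heq : ∀ x ∈ D.Qi 0, ∀ y ∈ D.Qi 0, c x = c y → x⁻¹ * y ∈ zpowers z := fun x hx y hy h =>
    (czero _ (mul_mem (inv_mem hx) hy)).1 (by rw [cadd _ (inv_mem hx) _ hy, cinv x hx, h, neg_add_cancel])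
  have hm : ∀ (g : blk0 D) {x : G}, x ∈ D.Qi 0 → (g : G) * x * (g : G)⁻¹ ∈ D.Qi 0 := fun g {x} hx =>
    (g.2.2 x).1 hx
  -- the image of a vector
  have hlin : ∀ (g : blk0 D), ∀ x ∈ D.Qi 0, c ((g : G) * x * (g : G)⁻¹) =
      (c x).1.val • c ((g : G) * u * (g : G)⁻¹) + (c x).2.val • c ((g : G) * v * (g : G)⁻¹) := by
    intro g x hx
    set b := u ^ (c x).1.val * v ^ (c x).2.val with hb0
    have hb : b ∈ D.Qi 0 := mul_mem (pow_mem hu _) (pow_mem hv _)
    have hcb : c b = c x := by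
      rw [hb0, cadd _ (pow_mem hu _) _ (pow_mem hv _), cpow u hu, cpow v hv, cu, cv]
      refine Prod.ext ?_ ?_ <;> simp
    have hs := heq b hb x hx hcb
    have e : (g : G) * x * (g : G)⁻¹ = ((g : G) * u * (g : G)⁻¹) ^ (c x).1.val *
        ((g : G) * v * (g : G)⁻¹) ^ (c x).2.val * ((g : G) * (b⁻¹ * x) * (g : G)⁻¹) := by
      rw [conj_pow, conj_pow, conj_mul, conj_mul]
      congr 2
      rw [← hb0]; group
    rw [e, cadd _ (mul_mem (pow_mem (hm g hu) _) (pow_mem (hm g hv) _)) _ (hm g (zpow_z_mem D 0 hs)),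
      cadd _ (pow_mem (hm g hu) _) _ (pow_mem (hm g hv) _), cpow _ (hm g hu), cpow _ (hm g hv),
      (czero _ (hm g (zpow_z_mem D 0 hs))).2 (by rw [conj_zpow g.2.1 hs]; exact hs), add_zero]
  let M : blk0 D → Matrix (Fin 2) (Fin 2) (ZMod 3) := fun g =>
    !![(c ((g : G) * u * (g : G)⁻¹)).1, (c ((g : G) * v * (g : G)⁻¹)).1;
       (c ((g : G) * u * (g : G)⁻¹)).2, (c ((g : G) * v * (g : G)⁻¹)).2]
  have hdet : ∀ g, (M g).det = 1 := by
    intro g
    have e1 := cP _ (hm g hu) _ (hm g hv)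
    have e2 := cP u hu v hv
    rw [cu, cv] at e2
    have e3 : (g : G) * u * (g : G)⁻¹ * ((g : G) * v * (g : G)⁻¹) * ((g : G) * u * (g : G)⁻¹)⁻¹ *
        ((g : G) * v * (g : G)⁻¹)⁻¹ = (g : G) * (u * v * u⁻¹ * v⁻¹) * (g : G)⁻¹ := by group
    rw [e3, e2, conj_zpow g.2.1 (pow_mem (mem_zpowers z) _)] at e1
    have h := (z_pow_inj H e1).symm
    simp only [mul_one, zero_mul, sub_zero] at h
    rw [Matrix.det_fin_two]
    simp only [M, of_apply, cons_val', cons_val_zero, cons_val_one, cons_val_fin_one, empty_val']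
    rw [← h]
    ring
  refine ⟨MonoidHom.mk' (fun g => ⟨M g, hdet g⟩) fun g h => Subtype.ext ?_, fun g => ?_⟩
  · show M (g * h) = M g * M h
    have e : ∀ w : G, ((g * h : blk0 D) : G) * w * ((g * h : blk0 D) : G)⁻¹ =
        (g : G) * ((h : G) * w * (h : G)⁻¹) * (g : G)⁻¹ := fun w => by push_cast; group
    have hu' := hlin g _ (hm h hu)
    have hv' := hlin g _ (hm h hv)
    ext i j
    fin_cases i <;> fin_cases j <;> simp only [M, Matrix.mul_apply, Fin.sum_univ_two, e] <;> simp [hu', hv', mul_comm]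
  · constructor
    · intro h x hx
      have h' : M g = 1 := congrArg Subtype.val h
      have hu1 : c ((g : G) * u * (g : G)⁻¹) = (1, 0) :=
        Prod.ext (by simpa [M] using congrFun (congrFun h' 0) 0) (by simpa [M] using congrFun (congrFun h' 1) 0)
      have hv1 : c ((g : G) * v * (g : G)⁻¹) = (0, 1) :=
        Prod.ext (by simpa [M] using congrFun (congrFun h' 0) 1) (by simpa [M] using congrFun (congrFun h' 1) 1)
      have hcx := hlin g x hx
      rw [hu1, hv1] at hcx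
      refine (czero _ (mul_mem (hm g hx) (inv_mem hx))).1 ?_
      rw [cadd _ (hm g hx) _ (inv_mem hx), cinv x hx, hcx]
      refine Prod.ext ?_ ?_ <;> simp
    · intro h
      have one : ∀ w ∈ D.Qi 0, c ((g : G) * w * (g : G)⁻¹) = c w := fun w hw => by
        have h' := cadd _ (zpow_z_mem D 0 (h w hw)) _ hw
        rw [inv_mul_cancel_right, (czero _ (zpow_z_mem D 0 (h w hw))).2 (h w hw), zero_add] at h'
        exact h'
      refine Subtype.ext ?_
      show M g = 1
      ext i j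
      fin_cases i <;> fin_cases j <;> simp [M, one u hu, one v hv, cu, cv]

end Cfsg.Agent.U62Three.K
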