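import Cfsg.Agent.U62Three.K.P.Eight

/-!
# The parametrised centraliser of the image of `t`
-/

set_option autoImplicit false
set_option linter.unusedSectionVars false
set_option synthInstance.maxSize 4000
set_option synthInstance.maxHeartbeats 400000

open Subgroup

namespace Cfsg.Agent.U62Three.K

open Cfsg.Agent.Sp6Local
open Cfsg.Agent.Sym9ThreeLocal hiding Conf

universe u

/-- An element commuting with an involution up to a part of odd order inverted by it can be corrected. -/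
theorem exists_adjust {M : Type u} [Group M] {i n : M} (hi : i * i = 1) {C : Subgroup M}
    (hc : n * i * n⁻¹ * i⁻¹ ∈ C) (hC : ∀ x ∈ C, x ^ 3 = 1) : ∃ d ∈ C, Commute (d * n) i := by
  set c := n * i * n⁻¹ * i⁻¹ with hcd
  have hii : i⁻¹ = i := inv_eq_of_mul_eq_one_right hi
  have hinv : i * c * i⁻¹ = c⁻¹ := by
    rw [hcd]
    calc i * (n * i * n⁻¹ * i⁻¹) * i⁻¹ = i * n * i * n⁻¹ * (i * i)⁻¹ := by group
      _ = i * n * i⁻¹ * n⁻¹ := by rw [hi, hii, inv_one, mul_one]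
      _ = (n * i * n⁻¹ * i⁻¹)⁻¹ := by group
  refine ⟨c, hc, ?_⟩
  have h2 : c * c = c⁻¹ := eq_inv_of_mul_eq_one_left (by rw [← pow_two, ← pow_succ]; exact hC c hc)
  show c * n * i = i * (c * n)
  calc c * n * i = c * c * i * n := by rw [hcd]; group
    _ = c⁻¹ * i * n := by rw [h2]
    _ = i * (c * n) := by rw [← hinv]; group

variable {G : Type u} [Group G] [Finite G] {z : G} {Q : Subgroup G} {D : Facts z Q} {A : Subgroup G}
  (B : Base D A)

include B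

theorem Base.t_cA : D.t 0 ∈ cA A :=
  mem_centralizer_iff.2 fun _ hx => mem_centralizer_singleton_iff.1 (B.ct hx)

/-- The image of `t`. -/
def Base.tX : XQ A := QuotientGroup.mk ⟨D.t 0, B.t_cA⟩

theorem Base.tX_facts (H : Hyp z Q) : B.tX * B.tX = 1 ∧ B.tX ≠ 1 ∧ B.tX * B.zX = B.zX * B.tX := by
  refine ⟨?_, fun e => ?_, ?_⟩
  · show (QuotientGroup.mk (⟨D.t 0, B.t_cA⟩ * ⟨D.t 0, B.t_cA⟩ : ↥(cA A)) : XQ A) = 1
    rw [show (⟨D.t 0, B.t_cA⟩ * ⟨D.t 0, B.t_cA⟩ : ↥(cA A)) = 1 from Subtype.ext (t_sq D 0), QuotientGroup.mk_one]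
  · have h3 := B.cube _ (pmk_one.1 e)
    rw [pow_succ, pow_two, t_sq D 0, one_mul] at h3
    exact t_ne D 0 h3
  · show (QuotientGroup.mk (⟨D.t 0, B.t_cA⟩ * ⟨z, B.z_cA⟩ : ↥(cA A)) : XQ A) = QuotientGroup.mk (⟨z, B.z_cA⟩ * ⟨D.t 0, B.t_cA⟩)
    exact congrArg _ (Subtype.ext (mem_centralizer_singleton_iff.1 (D.R_le 0 (D.t_mem 0))))

variable {h : Conf (XQ A)} (hJ : h.J = img A D.F.J) (hx : h.x = B.zX)
include hJ hx

/-- A subgroup with the centraliser of `t` on codes, and elements outside it normalising the frame. -/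
theorem Base.codes (H : Hyp z Q)
    (hA : centralizer (D.F.J : Set G) = D.F.J ∨ ∃ W : Wide D.F, W.e 4 ∈ A) :
    ∃ X0 : Subgroup (XQ A), ∃ ht : B.tX ∈ X0, Nonempty (PSp43Rec.Frame (⟨B.tX, ht⟩ : ↥X0)) ∧
      centralizer ({B.zX} : Set (XQ A)) ≤ X0 ∧ (∀ y : XQ A, y ^ 3 = 1 → y ∈ X0) ∧
      ∀ y, Commute y B.tX → ∃ e ∈ X0, ∃ n ∈ h.N, y = e * n ∧ Commute e B.tX := by
  obtain ⟨t2, t1, tz⟩ := B.tX_facts H
  rw [← hx] at tz ⊢
  rcases B.kind_cases hJ hx H hA with hk | ⟨hk, hCJ⟩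
  · obtain ⟨F⟩ := frame_four h h.facts hk tz t2 t1
    refine ⟨⊤, mem_top _, ⟨F.transport Subgroup.topEquiv.symm⟩, le_top, fun y _ => mem_top y,
      fun y hy => ⟨y, mem_top y, 1, one_mem _, (mul_one y).symm, hy⟩⟩
  · obtain ⟨G0, hidx, hC, h3, ⟨n, hn, hn0, hninv⟩, ht, hF⟩ := frame_eight h hk (B.loc_e1 hJ hx H hk hCJ) tz t2 t1
    refine ⟨G0, ht, hF, hC, h3, fun y hy => ?_⟩
    by_cases hy0 : y ∈ G0
    · exact ⟨y, hy0, 1, one_mem _, (mul_one y).symm, hy⟩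
    have htN : B.tX ∈ h.N := B.mem_N hJ (t_normJ D) B.t_cA
    have hcJ : n * B.tX * n⁻¹ * B.tX⁻¹ ∈ h.J := by
      refine h.cent_J fun v => mul_inv_eq_iff_eq_mul.1 ?_
      obtain ⟨w, hw, -⟩ := h.exists_act htN
      have hv : ∀ v, n⁻¹ * h.j v * n = h.j v⁻¹ := fun v => by
        have := hninv v⁻¹
        rw [inv_inv] at this
        rw [← this]; group
      have hw' : ∀ v, B.tX⁻¹ * h.j v * B.tX = h.j (act (w : W)⁻¹ v) := fun v => by
        have := hw (act (w : W)⁻¹ v)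
        rw [← act_mul, mul_inv_cancel, act_one] at this
        rw [← this]; group
      calc n * B.tX * n⁻¹ * B.tX⁻¹ * h.j v * (n * B.tX * n⁻¹ * B.tX⁻¹)⁻¹
          = n * (B.tX * (n⁻¹ * (B.tX⁻¹ * h.j v * B.tX) * n) * B.tX⁻¹) * n⁻¹ := by group
        _ = h.j v := by
          rw [hw', hv, hw, hninv]
          exact congrArg h.j ((by decide +kernel : ∀ (w : W) (v : Sym9ThreeLocal.A),
            (act w (act w⁻¹ v)⁻¹)⁻¹ = v) (w : W) v)
    obtain ⟨d, hd, hdn⟩ := exists_adjust t2 hcJ h.J_cube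
    have hn'0 : d * n ∉ G0 := fun h' => hn0 (by
      have := mul_mem (inv_mem (h3 d (h.J_cube d hd))) h'
      rwa [inv_mul_cancel_left] at this)
    refine ⟨y * (d * n)⁻¹, ?_, d * n, mul_mem (h.J_le_N hd) hn, by group, hy.mul_left hdn.inv_left⟩
    rw [mul_mem_iff_of_index_two hidx]
    exact iff_of_false hy0 fun h' => hn'0 (by have := inv_mem h'; rwa [inv_inv] at this)

end Cfsg.Agent.U62Three.K
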