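import Cfsg.Agent.U62Three.K.P.Action

/-!
# The group `A` generated by the root `e₄ - e₅`, and by `e₄` when it exists
-/

set_option autoImplicit false
set_option linter.unusedSectionVars false

open Subgroup

namespace Cfsg.Agent.U62Three.K

universe u

variable {G : Type u} [Group G] [Finite G] {z : G} {Q : Subgroup G} (D : Facts z Q)

/-- The root `e₄ - e₅`. -/
def ra : G := D.F.j 4 5

/-- The subgroup `A`: the root, with `e₄` in the wide case. -/
structure Base (A : Subgroup G) : Prop where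
  le : A ≤ centralizer (D.F.J : Set G)
  mem : ra D ∈ A
  inter : D.F.J ⊓ A ≤ zpowers (ra D)
  cube : ∀ x ∈ A, x ^ 3 = 1
  span : centralizer (D.F.J : Set G) ≤ D.F.J ⊔ A
  comm : ∀ x ∈ A, ∀ y ∈ A, Commute x y
  ct : A ≤ centralizer ({D.t 0} : Set G)
  blk : A ≤ centralizer (D.Qi 0 : Set G)
  fix : ∀ n ∈ normalizer (D.F.J : Set G), ∀ σ : Equiv.Perm (Fin 6),
    (∀ a b, n * D.F.j a b * n⁻¹ = D.F.j (σ a) (σ b)) → σ 4 = 4 → σ 5 = 5 → ∀ x ∈ A, Commute n x

variable {D}

theorem Qi_norm (H : Hyp z Q) {x : G} (hx : x ∈ Q) : ∀ i w, w ∈ D.Qi i ↔ x * w * x⁻¹ ∈ D.Qi i := by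
  have key : ∀ x ∈ Q, ∀ i w, w ∈ D.Qi i → x * w * x⁻¹ ∈ D.Qi i := fun x hx i w hw => by
    have h1 : x * w * x⁻¹ * w⁻¹ ∈ D.Qi i := zpow_z_mem D i (comm_mem_z H hx (D.le i hw))
    have := mul_mem h1 hw
    rwa [inv_mul_cancel_right] at this
  intro i w
  refine ⟨key x hx i w, fun hw => ?_⟩
  have := key x⁻¹ (inv_mem hx) i _ hw
  rwa [show x⁻¹ * (x * w * x⁻¹) * x⁻¹⁻¹ = w by group] at this

/-- A member of the first block normalises the frame. -/
theorem Qi0_normJ (H : Hyp z Q) : D.Qi 0 ≤ normalizer (D.F.J : Set G) := by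
  intro x hx
  refine normJ_of_lines D H (H.le (D.le 0 hx)) (Qi_norm H (D.le 0 hx)) ?_ ?_
  · have h1 := comm_mem_z H (D.le 0 hx) (D.le 0 D.j_zero.1)
    have := mul_mem (mem_sup_left (T := zpowers (D.F.j 0 1)) h1) (mem_sup_right (mem_zpowers (D.F.j 0 1)))
    rwa [inv_mul_cancel_right] at this
  · rw [(D.comm 0 1 (by decide) x hx _ D.j_one.1).eq, mul_inv_cancel_right]
    exact mem_sup_right (mem_zpowers _)

/-- A member of the first block permutes only the first three places. -/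
theorem Qi0_act (H : Hyp z Q) {x : G} (hx : x ∈ D.Qi 0) : ∃ σ : Equiv.Perm (Fin 6),
    (∀ a b, x * D.F.j a b * x⁻¹ = D.F.j (σ a) (σ b)) ∧ σ 3 = 3 ∧ σ 4 = 4 ∧ σ 5 = 5 := by
  obtain ⟨σ, hσ⟩ := D.mono x (Qi0_normJ H hx)
  have h34 : x * D.F.j 3 4 * x⁻¹ = D.F.j 3 4 := by
    rw [(D.comm 0 1 (by decide) x hx _ D.j_one.1).eq, mul_inv_cancel_right]
  have h45 : x * D.F.j 4 5 * x⁻¹ = D.F.j 4 5 := by
    rw [(D.comm 0 1 (by decide) x hx _ D.j_one.2).eq, mul_inv_cancel_right]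
  rcases hσ with hσ | hσ
  · rw [hσ] at h34 h45
    exact ⟨σ, hσ, (j_inj D.F (by decide) h34.symm).1.symm, (j_inj D.F (by decide) h34.symm).2.symm,
      (j_inj D.F (by decide) h45.symm).2.symm⟩
  · rw [hσ] at h34 h45
    exact absurd (σ.injective ((j_inj D.F (by decide) h34.symm).2.symm.trans
      (j_inj D.F (by decide) h45.symm).1)) (by decide)

/-- An element acting positively on the frame acts in the same way on the weight one elements. -/
theorem wide_act (W : Wide D.F) {n : G} (hn : n ∈ normalizer (D.F.J : Set G)) {σ : Equiv.Perm (Fin 6)}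
    (h : ∀ a b, n * D.F.j a b * n⁻¹ = D.F.j (σ a) (σ b)) : ∀ a, n * W.e a * n⁻¹ = W.e (σ a) := by
  obtain ⟨τ, hτ⟩ := W.mono n hn
  have hj : ∀ a b, n * D.F.j a b * n⁻¹ = n * W.e a * n⁻¹ * (n * W.e b * n⁻¹)⁻¹ := fun a b => by
    rw [W.diff]; group
  rcases hτ with hτ | hτ
  · have hστ : ∀ a, τ a = σ a := fun a => by
      obtain ⟨b, hb⟩ : ∃ b : Fin 6, a ≠ b := ⟨if a = 0 then 1 else 0, by fin_cases a <;> decide⟩
      have e := hj a b
      rw [h, hτ, hτ, ← W.diff] at e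
      exact (j_inj D.F (fun e => hb (σ.injective e)) e).1.symm
    exact fun a => (hτ a).trans (congrArg W.e (hστ a))
  · exfalso
    have hστ : ∀ a b : Fin 6, a ≠ b → σ a = τ b := fun a b hab => by
      have e := hj a b
      rw [h, hτ, hτ, inv_inv, ← ((W.comm _ _).inv_right).eq, ← W.diff] at e
      exact (j_inj D.F (fun e => hab (σ.injective e)) e).1
    exact absurd (τ.injective ((hστ 0 1 (by decide)).symm.trans (hστ 0 2 (by decide)))) (by decide)

/-- The narrow choice. -/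
theorem base_narrow (H : Hyp z Q) (hn : ¬ 3 ^ 7 ∣ Nat.card ↥(centralizer ({z} : Set G))) :
    Base D (zpowers (ra D)) := by
  have haJ : ra D ∈ D.F.J := j_mem D.F _ _
  refine ⟨zpowers_le.2 (mem_centralizer_iff.2 fun w hw => (frame_commute hw haJ).eq), mem_zpowers _,
    inf_le_right, fun x hx => ?_, (D.narrow hn).le.trans le_sup_left, fun x hx y hy => ?_, ?_, ?_,
    fun n _ σ hσ h4 h5 x hx => ?_⟩
  · rw [pow_succ, pow_two]; exact J_cube (zpowers_le.2 haJ hx)
  · exact frame_commute (zpowers_le.2 haJ hx) (zpowers_le.2 haJ hy)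
  · exact zpowers_le.2 (mem_centralizer_singleton_iff.2 (tQ1 D D.j_one.2).symm.eq)
  · exact zpowers_le.2 (mem_centralizer_iff.2 fun w hw => (D.comm 0 1 (by decide) w hw _ D.j_one.2).eq)
  · obtain ⟨m, rfl⟩ := mem_zpowers_iff.1 hx
    have := hσ 4 5
    rw [h4, h5] at this
    exact (show Commute n (ra D) from mul_inv_eq_iff_eq_mul.1 this).zpow_right m

/-- The wide choice. -/
theorem base_wide (H : Hyp z Q) (W : Wide D.F) : Base D (zpowers (ra D) ⊔ zpowers (W.e 4)) := by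
  have hC : ∀ a, W.e a ∈ centralizer (D.F.J : Set G) := fun a => W.span ▸ subset_closure ⟨a, rfl⟩
  have hA : zpowers (ra D) ⊔ zpowers (W.e 4) = zpowers (W.e 4) ⊔ zpowers (W.e 5) := by
    refine le_antisymm (sup_le (zpowers_le.2 ?_) le_sup_left) (sup_le le_sup_right (zpowers_le.2 ?_))
    · rw [ra, W.diff]
      exact mul_mem (mem_sup_left (mem_zpowers _)) (inv_mem (mem_sup_right (mem_zpowers _)))
    · have h1 : (ra D)⁻¹ * W.e 4 = W.e 5 := by
        rw [ra, W.diff, mul_inv_rev, inv_inv, inv_mul_cancel_right]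
      exact h1 ▸ mul_mem (inv_mem (mem_sup_left (mem_zpowers _))) (mem_sup_right (mem_zpowers _))
  -- commutation is tested on the two generators
  have hgen : ∀ {T : Subgroup G}, W.e 4 ∈ T → W.e 5 ∈ T → zpowers (ra D) ⊔ zpowers (W.e 4) ≤ T :=
    fun h4 h5 => hA ▸ sup_le (zpowers_le.2 h4) (zpowers_le.2 h5)
  have hcomm : ∀ a, centralizer (D.F.J : Set G) ≤ centralizer ({W.e a} : Set G) := fun a => by
    rw [W.span, closure_le]
    rintro _ ⟨b, rfl⟩
    exact mem_centralizer_singleton_iff.2 (W.comm b a).eq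
  have hfix : ∀ n ∈ normalizer (D.F.J : Set G), ∀ σ : Equiv.Perm (Fin 6),
      (∀ a b, n * D.F.j a b * n⁻¹ = D.F.j (σ a) (σ b)) → σ 4 = 4 → σ 5 = 5 →
        ∀ x ∈ zpowers (ra D) ⊔ zpowers (W.e 4), Commute n x := by
    intro n hn σ hσ h4 h5 x hx
    have key : ∀ a : Fin 6, σ a = a → W.e a ∈ centralizer ({n} : Set G) := fun a ha => by
      have e := wide_act W hn hσ a
      rw [ha] at e
      exact mem_centralizer_singleton_iff.2 (mul_inv_eq_iff_eq_mul.1 e).symm
    exact (mem_centralizer_singleton_iff.1 (hgen (key 4 h4) (key 5 h5) hx)).symm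
  refine ⟨hgen (hC 4) (hC 5), mem_sup_left (mem_zpowers _), ?_, ?_, ?_, ?_, ?_, ?_, hfix⟩
  · rintro x ⟨hxJ, hxA⟩
    have hn : zpowers (ra D) ≤ normalizer (zpowers (W.e 4) : Set G) := zpowers_le.2
      (centralizer_le_normalizer _ (mem_centralizer_iff.2 fun w hw => by
        obtain ⟨m, rfl⟩ := mem_zpowers_iff.1 hw
        exact ((show Commute (W.e 4) (ra D) by
          rw [ra, W.diff]; exact ((W.comm 4 4).mul_right (W.comm 4 5).inv_right)).zpow_left m).eq))
    have hx' : x ∈ (↑(zpowers (ra D) ⊔ zpowers (W.e 4)) : Set G) := hxA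
    rw [coe_mul_of_left_le_normalizer_right _ _ hn] at hx'
    obtain ⟨p, hp, q, hq, rfl⟩ := hx'
    by_cases hq1 : q = 1
    · show p * q ∈ _
      rw [hq1, mul_one]; exact hp
    exfalso
    have hqJ : q ∈ D.F.J := by
      have := mul_mem (inv_mem (zpowers_le.2 (j_mem D.F 4 5) hp)) (show p * q ∈ D.F.J from hxJ)
      rwa [inv_mul_cancel_left] at this
    obtain ⟨m, rfl⟩ := mem_zpowers_iff.1 hq
    have h4J : W.e 4 ∈ D.F.J := by
      have h3 : W.e 4 ^ (3 : ℤ) = 1 := by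
        rw [show (3 : ℤ) = ((3 : ℕ) : ℤ) from rfl, zpow_natCast]; exact W.cube 4
      rw [← Int.emod_add_mul_ediv m 3, zpow_add, zpow_mul, h3, one_zpow, mul_one] at hq1 hqJ
      rcases (show m % 3 = 0 ∨ m % 3 = 1 ∨ m % 3 = 2 by omega) with r | r | r <;> rw [r] at hq1 hqJ
      · exact absurd (zpow_zero _) hq1
      · rwa [zpow_one] at hqJ
      · have := inv_mem hqJ
        rwa [show (W.e 4 ^ (2 : ℤ))⁻¹ = W.e 4 by
          rw [inv_eq_iff_mul_eq_one, ← zpow_add_one]; exact h3] at this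
    have hall : centralizer (D.F.J : Set G) ≤ D.F.J := by
      rw [W.span, closure_le]
      rintro _ ⟨b, rfl⟩
      have h := mul_mem (j_mem D.F b 4) h4J
      rwa [W.diff, inv_mul_cancel_right] at h
    have := Subgroup.card_le_of_le hall
    rw [W.card, D.F.card] at this
    omega
  · intro x hx
    have hle : zpowers (ra D) ⊔ zpowers (W.e 4) ≤ centralizer (D.F.J : Set G) := hgen (hC 4) (hC 5)
    obtain ⟨p, hp, q, hq, rfl⟩ : ∃ p ∈ zpowers (W.e 4), ∃ q ∈ zpowers (W.e 5), x = p * q := by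
      have hn : zpowers (W.e 4) ≤ normalizer (zpowers (W.e 5) : Set G) := zpowers_le.2
        (centralizer_le_normalizer _ (mem_centralizer_iff.2 fun w hw => by
          obtain ⟨m, rfl⟩ := mem_zpowers_iff.1 hw
          exact ((W.comm 5 4).zpow_left m).eq))
      have hx' : x ∈ (↑(zpowers (W.e 4) ⊔ zpowers (W.e 5)) : Set G) := by rw [← hA]; exact hx
      rw [coe_mul_of_left_le_normalizer_right _ _ hn] at hx'
      obtain ⟨p, hp, q, hq, rfl⟩ := hx'
      exact ⟨p, hp, q, hq, rfl⟩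
    obtain ⟨i, rfl⟩ := mem_zpowers_iff.1 hp
    obtain ⟨k, rfl⟩ := mem_zpowers_iff.1 hq
    have h : ∀ a (m : ℤ), (W.e a ^ m) ^ 3 = 1 := fun a m => by
      rw [← zpow_natCast, ← zpow_mul, mul_comm, zpow_mul, zpow_natCast, W.cube, one_zpow]
    rw [(((W.comm 4 5).zpow_left i).zpow_right k).mul_pow, h, h, one_mul]
  · rw [W.span, closure_le]
    rintro _ ⟨b, rfl⟩
    have h := mul_mem (mem_sup_left (T := zpowers (ra D) ⊔ zpowers (W.e 4)) (j_mem D.F b 4))
      (mem_sup_right (S := D.F.J) (mem_sup_right (S := zpowers (ra D)) (mem_zpowers (W.e 4))))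
    rwa [W.diff, inv_mul_cancel_right] at h
  · intro x hx y hy
    have h : ∀ a, W.e a ∈ centralizer ((zpowers (ra D) ⊔ zpowers (W.e 4) : Subgroup G) : Set G) := fun a =>
      mem_centralizer_iff.2 fun w hw => mem_centralizer_singleton_iff.1 (hcomm a (hgen (hC 4) (hC 5) hw))
    exact (mem_centralizer_iff.1 (hgen (h 4) (h 5) hy) x hx)
  · intro x hx
    have := hfix _ (t_normJ D) (Equiv.swap 0 1) (D.t_zero) (by decide) (by decide) x hx
    exact mem_centralizer_singleton_iff.2 this.symm.eq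
  · intro x hx
    refine mem_centralizer_iff.2 fun w hw => ?_
    obtain ⟨σ, hσ, -, h4, h5⟩ := Qi0_act H hw
    exact (hfix w (Qi0_normJ H hw) σ hσ h4 h5 x hx).eq

variable {A : Subgroup G} (B : Base D A)
include B

theorem Base.zJ : z ∈ D.F.J := zpow_z_J D (mem_zpowers z)

theorem Base.comm_z {x : G} (hx : x ∈ A) : Commute z x :=
  mem_centralizer_iff.1 (B.le hx) z (zpow_z_J D (mem_zpowers z))

theorem Base.z_notMem (H : Hyp z Q) : z ∉ A := fun hz => by
  have key : ∀ a : Fin 3, wsum (a.val • vd 4 5) = 0 ∧ ¬ Same (vd 0 1 + vd 2 1) (a.val • vd 4 5) := by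
    decide +kernel
  have h := B.inter ⟨zpow_z_J D (mem_zpowers z), hz⟩
  obtain ⟨m, hm⟩ := mem_zpowers_iff.1 h
  have h3 : ra D ^ (3 : ℤ) = 1 := by
    rw [show (3 : ℤ) = 1 + 1 + 1 from rfl, zpow_add, zpow_add, zpow_one]; exact D.F.cube 4 5
  rw [← Int.emod_add_mul_ediv m 3, zpow_add, zpow_mul, h3, one_zpow, mul_one] at hm
  obtain ⟨k1, k2⟩ := key ⟨(m % 3).toNat, by omega⟩
  refine k2 ((el_eq_iff D.F (by decide +kernel) k1).1 ?_)
  rw [← el_mul, el_vd, el_vd, ← D.F.hz, ← el_pow, el_vd]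
  refine hm.symm.trans ?_
  show ra D ^ (m % 3) = ra D ^ (m % 3).toNat
  rw [← zpow_natCast, Int.toNat_of_nonneg (by omega)]

/-- `A` commutes with the first quaternion group. -/
theorem Base.comm_R0 (H : Hyp z Q) {x r : G} (hx : x ∈ A) (hr : r ∈ D.R 0) : Commute x r := by
  have hxz : x ∈ centralizer ({z} : Set G) := mem_centralizer_singleton_iff.2 (B.comm_z hx).symm.eq
  have hxn : x * r * x⁻¹ ∈ D.R 0 := (mem_normalizer_iff.1 (norm_R0 D H ⟨B.ct hx, hxz⟩) r).1 hr
  obtain ⟨w, hw, hwz⟩ := block_ne D 0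
  refine mul_inv_eq_iff_eq_mul.1 (mul_inv_eq_one.1 (faith' D (mul_mem hxn (inv_mem hr)) hw hwz ?_))
  have hxw : ∀ {v : G}, v ∈ D.Qi 0 → x⁻¹ * v * x = v := fun {v} hv => by
    rw [mul_assoc, mem_centralizer_iff.1 (B.blk hx) v hv, inv_mul_cancel_left]
  refine mul_inv_eq_iff_eq_mul.1 ?_
  calc x * r * x⁻¹ * r⁻¹ * w * (x * r * x⁻¹ * r⁻¹)⁻¹
      = x * (r * (x⁻¹ * (r⁻¹ * w * r) * x) * r⁻¹) * x⁻¹ := by group
    _ = x * w * x⁻¹ := by
      rw [hxw (by
        have := (mem_normalizer_iff.1 (inv_mem (D.R_norm 0 0 hr)) w).1 hw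
        rwa [inv_inv] at this)]
      group
    _ = w := by rw [← mem_centralizer_iff.1 (B.blk hx) w hw, mul_inv_cancel_right]

/-- A conjugate of `z` in a coset `z^± A` is that power of `z`. -/
theorem Base.coset (H : Hyp z Q) {g z' : G} (hz' : z' = z ∨ z' = z⁻¹) (h : z'⁻¹ * (g * z * g⁻¹) ∈ A) :
    g * z * g⁻¹ = z' := by
  set w := g * z * g⁻¹ with hw
  have hz'z : z' ∈ zpowers z := by
    rcases hz' with e | e <;> rw [e]
    · exact mem_zpowers z
    · exact inv_mem (mem_zpowers z)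
  suffices hwz : w ∈ zpowers z by
    have hmem : z'⁻¹ * w ∈ zpowers z := mul_mem (inv_mem hz'z) hwz
    rcases zpow_cases H hmem with e | e | e
    · exact (inv_mul_eq_one.1 e).symm
    · exact absurd (e ▸ h) (B.z_notMem H)
    · refine absurd ?_ (B.z_notMem H)
      have := pow_mem (e ▸ h : z ^ 2 ∈ A) 2
      rwa [← pow_mul, show 2 * 2 = 3 + 1 from rfl, pow_add, z_cube H, one_mul, pow_one] at this
  by_contra hwz
  have hwC : w ∈ centralizer ({z} : Set G) := by
    have h1 : z'⁻¹ * w ∈ centralizer ({z} : Set G) := mem_centralizer_singleton_iff.2 (B.comm_z h).symm.eq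
    have h2 := mul_mem (zpowers_le.2 (mem_centralizer_singleton_iff.2 (rfl : z * z = z * z)) hz'z) h1
    rwa [mul_inv_cancel_left] at h2
  have hwQ : ∀ x ∈ D.Qi 0, Commute w x := fun x hx => by
    have h1 : Commute (z'⁻¹ * w) x := (mem_centralizer_iff.1 (B.blk h) x hx).symm
    have h2 : Commute z' x := by
      obtain ⟨m, rfl⟩ := mem_zpowers_iff.1 hz'z
      exact (z_comm_Q H (D.le 0 hx)).zpow_left m
    have := h2.mul_left h1
    rwa [mul_inv_cancel_left] at this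
  obtain ⟨c, hc, hcw⟩ := D.moved g ⟨hwC, hwz⟩
  obtain ⟨k, hk⟩ := D.perm c hc 0
  have hyJ : ∀ x ∈ D.Qi k, x ∈ D.F.J := by
    intro x hx
    refine D.centQ x (D.le k hx) ?_
    have hx0 : c⁻¹ * x * c ∈ D.Qi 0 := (hk _).2 (by rwa [show c * (c⁻¹ * x * c) * c⁻¹ = x by group])
    have h1 := (hwQ _ hx0).map (MulAut.conj c).toMonoidHom
    simp only [MulEquiv.coe_toMonoidHom, MulAut.conj_apply] at h1
    rw [show c * (c⁻¹ * x * c) * c⁻¹ = x by group] at h1
    rcases hcw with e | e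
    · rw [e] at h1; exact h1.symm
    · rw [e] at h1; simpa using h1.symm.inv_right
  obtain ⟨x, hx, hxz⟩ := block_ne D k
  exact hxz (D.centre k x hx fun y hy => frame_commute (hyJ x hx) (hyJ y hy))

end Cfsg.Agent.U62Three.K
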