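import Cfsg.Agent.PSp43Rec.Frame

/-!
# Two commuting quaternion groups in `(SL(2,3) ∘ SL(2,3)).2`: checks on codes
-/

set_option autoImplicit false

namespace Cfsg.Agent.U62Three.K.PCode

open PSp43Rec

/-- The members of the product of the two quaternion groups. -/
def inO (x : ℕ) : Bool := x % 2 == 0 && powC x 4 == 0

/-- Left factor trivial up to sign. -/
def isR (x : ℕ) : Bool := inO x && (x / 48 == 0 || x / 48 == 12)

/-- Right factor trivial up to sign. -/
def isL (x : ℕ) : Bool := inO x && (x / 2 % 24 == 0 || x / 2 % 24 == 12)

/-- The codes of elements of order three. -/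
def lThree : List ℕ := (List.range 576).filter fun e => e != 0 && powC e 3 == 0

/-- The codes of square `t`. -/
def lFour : List ℕ := (List.range 576).filter fun x => mulC x x == 24

theorem mem_lThree {e : ℕ} : e ∈ lThree ↔ e < 576 ∧ e ≠ 0 ∧ powC e 3 = 0 := by
  simp [lThree, List.mem_filter]

theorem mem_lFour {x : ℕ} : x ∈ lFour ↔ x < 576 ∧ mulC x x = 24 := by
  simp [lFour, List.mem_filter]

/-- A root of `t` moved by an element of order three onto a non-commuting one lies in the product. -/
theorem four_inO : ∀ x ∈ lFour, ∀ e ∈ lThree, comC x (cnj e x) = false → inO x = true := by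
  have h : (lFour.all fun x => inO x || lThree.all fun e => comC x (cnj e x)) = true := by decide +kernel
  intro x hx e he hc
  have h1 := List.all_eq_true.1 h x hx
  rw [Bool.or_eq_true, List.all_eq_true] at h1
  rcases h1 with h1 | h1
  · exact h1
  · rw [h1 e he] at hc; exact absurd hc (by decide)

/-- An element of the product centralised by an element of order three lies on one side, and then the whole side
is centralised. -/
theorem side : ∀ x ∈ lFour, ∀ e ∈ lThree, inO x = true → comC x e = true →
    (isL x = true ∧ ∀ y < 576, isL y = true → comC y e = true) ∨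
      (isR x = true ∧ ∀ y < 576, isR y = true → comC y e = true) := by
  have h : (lFour.all fun x => !inO x || lThree.all fun e => !comC x e ||
      (isL x && ((List.range 576).filter isL).all fun y => comC y e) ||
      (isR x && ((List.range 576).filter isR).all fun y => comC y e)) = true := by decide +kernel
  intro x hx e he hO hc
  have h1 := List.all_eq_true.1 h x hx
  simp only [hO, Bool.not_true, Bool.false_or, List.all_eq_true] at h1
  have h2 := h1 e he
  simp only [hc, Bool.not_true, Bool.false_or, Bool.or_eq_true, Bool.and_eq_true, List.all_eq_true,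
    List.mem_filter, List.mem_range] at h2
  rcases h2 with ⟨a, b⟩ | ⟨a, b⟩
  · exact Or.inl ⟨a, fun y hy h => b y ⟨hy, h⟩⟩
  · exact Or.inr ⟨a, fun y hy h => b y ⟨hy, h⟩⟩

/-- The two sides commute. -/
theorem sides_comm : ∀ x < 576, ∀ y < 576, isL x = true → isR y = true → comC x y = true := by
  have h : (((List.range 576).filter isL).all fun x => ((List.range 576).filter isR).all fun y =>
      comC x y) = true := by decide +kernel
  intro x hx y hy h1 h2
  exact List.all_eq_true.1 (List.all_eq_true.1 h x (List.mem_filter.2 ⟨List.mem_range.2 hx, h1⟩)) y
    (List.mem_filter.2 ⟨List.mem_range.2 hy, h2⟩)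

/-- The even codes form the kernel of the parity; there are 288 of them; each side has eight members. -/
theorem counts : ((List.range 576).filter fun x => x % 2 == 0).length = 288 ∧
    ((List.range 576).filter isL).length = 8 ∧ ((List.range 576).filter isR).length = 8 ∧
    (∀ x ∈ lFour, x < 576) := by
  decide +kernel

/-- A cube root of one is even. -/
theorem three_even : ∀ e ∈ lThree, e % 2 = 0 := by decide +kernel

end Cfsg.Agent.U62Three.K.PCode
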