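import Cfsg.Agent.Sp6Local.Dispatch
import Cfsg.Agent.Sp6Local.KindFour
import Cfsg.Agent.Sp6Local.Fusion

/-!
# The centraliser of an involution centralising the distinguished element, on codes
-/

set_option autoImplicit false
set_option synthInstance.maxSize 4000
set_option synthInstance.maxHeartbeats 400000

namespace Cfsg.Agent.U62Three.K

open Subgroup Cfsg Cfsg.Agent.Sp6Local
open Cfsg.Agent.Sym9ThreeLocal hiding Conf

universe u

variable {G : Type u} [Group G] [Finite G]

/-- In the kind four every involution commuting with `x` has the parametrised centraliser. -/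
theorem frame_four (h : Conf G) (F : h.Facts) (hk : h.k = .four) {i : G} (hix : i * h.x = h.x * i)
    (hi2 : i * i = 1) (hi1 : i ≠ 1) : Nonempty (PSp43Rec.Frame i) := by
  classical
  haveI : Fact (Nat.Prime 3) := ⟨Nat.prime_three⟩
  have hidx : ∀ A : Subgroup G, h.N ⊓ centralizer ({h.x} : Set G) ≤ A → Nat.card A = 648 →
      ¬ 3 ∣ ((h.N ⊓ centralizer ({h.x} : Set G)).subgroupOf A).index := by
    intro A hle hA hd
    have h1 := ((h.N ⊓ centralizer ({h.x} : Set G)).subgroupOf A).card_mul_index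
    rw [Nat.card_congr (subgroupOfEquivOfLe hle).toEquiv, F.card_x_inf, hA] at h1
    omega
  have B : PSp43Amalgam.Base h.N (centralizer ({h.x} : Set G)) h.J h.R (zpowers h.x) :=
    { syl₁ := hidx _ inf_le_left (h.card_N_four hk)
      syl₂ := hidx _ inf_le_right F.card_x
      le₁ := h.J_le_N
      le₂ := h.leR'
      comm₁ := h.J_comm
      cube₁ := h.J_cube
      card₁ := h.J_card
      card₂ := h.cardR
      proj₁ := h.exists_proj_N hk
      proj₂ := h.projX'
      faith := fun a _ hc => h.cent_J fun b => hc _ (h.j_mem b)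
      cardZ := by rw [Nat.card_zpowers, h.order_j xA_ne]
      memZ := h.centerR'
      nat := h.nat_x
      nor₁ := h.N_eq.symm
      nor₂ := h.norm_x_eq F (Or.inr hk)
      sig := fun K hK hn => h.sig K hK fun a =>
        mem_normalizer_iff_map_conj_eq.1 (hn (h.j_mem a)) }
  obtain ⟨ψ, w, t, s, g, e, p, C⟩ := B.exists_coord
  obtain ⟨F₁⟩ := C.exists_frame B
  have htx : t * h.x = h.x * t := mem_centralizer_singleton_iff.1 C.tA₂
  have ht1 : t ≠ 1 := fun e => by
    have := F₁.t_order
    rw [e, orderOf_one] at this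
    omega
  obtain ⟨r, -, hr⟩ := h.exists_conj_tau htx C.tt ht1
  obtain ⟨r', -, hr'⟩ := h.exists_conj_tau hix hi2 hi1
  have e : (MulAut.conj (r' * r⁻¹)) t = i := by
    rw [MulAut.conj_apply, ← hr, ← hr']; group
  exact ⟨e ▸ F₁.transport (MulAut.conj (r' * r⁻¹))⟩

theorem wi_inv : ∀ a : A, act wi a = a⁻¹ := by decide +kernel

theorem wi_odd : ¬ inK .four wi := by decide +kernel

/-- In the kind eight with local coordinate centralisers: the same inside a subgroup of index two. -/
theorem frame_eight (h : Conf G) (hk : h.k = .eight) (hloc : centralizer ({h.j e1} : Set G) ≤ h.N) {i : G}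
    (hix : i * h.x = h.x * i) (hi2 : i * i = 1) (hi1 : i ≠ 1) :
    ∃ G0 : Subgroup G, G0.index = 2 ∧ centralizer ({h.x} : Set G) ≤ G0 ∧ (∀ y : G, y ^ 3 = 1 → y ∈ G0) ∧
      (∃ n ∈ h.N, n ∉ G0 ∧ ∀ a, n * h.j a * n⁻¹ = h.j a⁻¹) ∧
      ∃ hi : i ∈ G0, Nonempty (PSp43Rec.Frame (⟨i, hi⟩ : ↥G0)) := by
  classical
  obtain ⟨χ, hC, hE⟩ := h.exists_char hk hloc
  set G0 := χ.ker with hG0
  set n := h.mon hk wi
  have hn0 : n ∉ G0 := fun hn => wi_odd ((hE (SemidirectProduct.inr wi)).1 (by rw [h.emb_inr hk]; exact hn))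
  have hnJ : ∀ a, n * h.j a * n⁻¹ = h.j a⁻¹ := fun a => by rw [h.mon_conj, wi_inv]
  have hnN : n ∈ h.N := by show h.mon hk wi ∈ h.N; rw [← h.emb_inr hk]; exact h.emb_mem hk _
  have hidx : G0.index = 2 := by
    rw [hG0, index_ker, MonoidHom.range_eq_top.2 (fun z => ?_), card_top, Nat.card_eq_fintype_card]
    · rfl
    · rcases Int.units_eq_one_or z with rfl | rfl
      · exact ⟨1, map_one χ⟩
      · exact ⟨n, (Int.units_eq_one_or _).resolve_left fun e => hn0 (MonoidHom.mem_ker.2 e)⟩
  have h3 : ∀ y : G, y ^ 3 = 1 → y ∈ G0 := fun y hy =>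
    MonoidHom.mem_ker.2 (units_cube (by rw [← map_pow, hy, map_one]))
  let φ0 : Mk .four →* G0 :=
    ((h.emb hk).comp (Mk .four).subtype).codRestrict G0 fun m => (hE _).2 m.2
  have hφ0 : Function.Injective φ0 := fun a b e =>
    Subtype.ext (h.emb_inj hk (congrArg Subtype.val e :))
  let x0 : G0 := φ0 (inlA .four xA)
  have hx0 : ((x0 : G0) : G) = h.x := rfl
  have hcent : ∀ g : G0, g ∈ centralizer ({x0} : Set G0) ↔ (g : G) ∈ centralizer ({h.x} : Set G) := fun g => by
    rw [mem_centralizer_singleton_iff, mem_centralizer_singleton_iff, ← hx0, Subtype.ext_iff]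
    rfl
  have hRle : h.R ≤ G0 := h.leR'.trans hC
  obtain ⟨π, hπs, hπ⟩ := h.projX'
  let ι : centralizer ({x0} : Set G0) →* centralizer ({h.x} : Set G) :=
    (G0.subtype.comp (centralizer ({x0} : Set G0)).subtype).codRestrict _ fun g => (hcent g.1).1 g.2
  let h0 : Conf G0 :=
    { k := .four
      φ := φ0
      inj := hφ0
      norm := fun g hg => by
        obtain ⟨m, hm⟩ := h.exists_emb hk (h.norm (g : G) fun a => (hg a).imp fun b e => by
          exact congrArg Subtype.val e)
        exact ⟨⟨m, (hE m).1 (hm ▸ g.2)⟩, Subtype.ext hm⟩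
      sig := fun H hH hinv => by
        have hmap := h.sig (H.map G0.subtype) (by rwa [card_map_of_injective G0.subtype_injective]) fun a => by
          conv_rhs => rw [← hinv a]
          rw [map_map, map_map]
          rfl
        exact map_injective G0.subtype_injective (hmap.trans (Subgroup.map_bot _).symm)
      R := h.R.subgroupOf G0
      cardR := by rw [Nat.card_congr (subgroupOfEquivOfLe hRle).toEquiv, h.cardR]
      cubeR := fun r hr => Subtype.ext (h.cubeR (r : G) hr)
      centerR := fun r => by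
        constructor
        · intro hr
          obtain ⟨i, hi⟩ := mem_zpowers_iff.1 hr
          obtain ⟨h1, h2⟩ := (h.centerR' (r : G)).1 (mem_zpowers_iff.2 ⟨i, by rw [← hi]; rfl⟩)
          exact ⟨h1, fun s hs => Subtype.ext (h2 s hs)⟩
        · rintro ⟨h1, h2⟩
          obtain ⟨i, hi⟩ := mem_zpowers_iff.1 ((h.centerR' (r : G)).2 ⟨h1, fun s hs =>
            congrArg Subtype.val (h2 ⟨s, hRle hs⟩ hs)⟩)
          exact mem_zpowers_iff.2 ⟨i, Subtype.ext (by rw [← hi]; rfl)⟩
      projX := ⟨π.comp ι, fun y => by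
        obtain ⟨⟨c, hc⟩, e⟩ := hπs y
        exact ⟨⟨⟨c, hC hc⟩, (hcent ⟨c, hC hc⟩).2 hc⟩, e⟩, fun g => hπ _⟩
      leR := fun r hr => (hcent r).2 (h.leR' hr) }
  have hi : i ∈ G0 := hC (mem_centralizer_singleton_iff.2 hix)
  exact ⟨G0, hidx, hC, h3, ⟨n, hnN, hn0, hnJ⟩, hi, frame_four h0 h0.facts rfl (i := ⟨i, hi⟩)
    (Subtype.ext hix) (Subtype.ext hi2) fun e => hi1 (congrArg Subtype.val e)⟩

end Cfsg.Agent.U62Three.K
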