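import Cfsg.Agent.U62Three.K.P.Kind

/-!
# In the kind eight the coordinate centralisers are local
-/

set_option autoImplicit false
set_option linter.unusedSectionVars false
set_option synthInstance.maxSize 4000
set_option synthInstance.maxHeartbeats 400000

open Subgroup

namespace Cfsg.Agent.U62Three.K

open Cfsg.Agent.Sp6Local
open Cfsg.Agent.Sym9ThreeLocal hiding Conf

universe u

variable {G : Type u} [Group G] [Finite G] {z : G} {Q : Subgroup G} {D : Facts z Q} {A : Subgroup G}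
  (B : Base D A)

/-- The vector of the product of two orthogonal roots. -/
def bv : V6 := vd 2 4 + vd 3 5

theorem b_not_point : ∀ (σ : Equiv.Perm (Fin 6)), wsum (vd (σ 0) (σ 1) + vd (σ 2) (σ 1)) = 0 ∧
    ¬ Same bv (vd (σ 0) (σ 1) + vd (σ 2) (σ 1)) ∧ ¬ Same bv (-(vd (σ 0) (σ 1) + vd (σ 2) (σ 1))) := by
  decide +kernel

theorem card_stab_e1 : (Finset.univ.filter fun m : Mf => act m.right e1 = e1).card = 216 := by
  decide +kernel

/-- An element fixing the product of orthogonal roots modulo the root `a` fixes it. -/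
theorem b_fix (H : Hyp z Q) {g : G} (hga : Commute g (ra D))
    (h : (el D.F bv)⁻¹ * (g * el D.F bv * g⁻¹) ∈ zpowers (ra D)) : Commute g (el D.F bv) := by
  obtain ⟨m, hm⟩ := mem_zpowers_iff.1 h
  have h3 : ra D ^ (3 : ℤ) = 1 := by
    rw [show (3 : ℤ) = 1 + 1 + 1 from rfl, zpow_add, zpow_add, zpow_one]; exact D.F.cube 4 5
  rw [← Int.emod_add_mul_ediv m 3, zpow_add, zpow_mul, h3, one_zpow, mul_one] at hm
  have hb : g * el D.F bv * g⁻¹ = el D.F bv * ra D ^ (m % 3) := by rw [hm, mul_inv_cancel_left]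
  obtain ⟨i, hi⟩ : ∃ i : Fin 3, ra D ^ (m % 3) = el D.F (i.val • vd 4 5) := by
    refine ⟨⟨(m % 3).toNat, by omega⟩, ?_⟩
    show _ = el D.F ((m % 3).toNat • vd 4 5)
    rw [← el_pow, el_vd, ← zpow_natCast, Int.toNat_of_nonneg (by omega)]
    rfl
  rcases eq_or_ne i 0 with rfl | hi0
  · rw [Fin.val_zero, zero_smul, el_zero] at hi
    rw [hi, mul_one] at hb
    exact mul_inv_eq_iff_eq_mul.1 hb
  exfalso
  -- otherwise the product would be a point
  rw [hi, el_mul] at hb
  have key : ∀ i : Fin 3, i ≠ 0 → wsum (bv + i.val • vd 4 5) = 0 ∧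
      ∃ σ : Equiv.Perm (Fin 6), Same (bv + i.val • vd 4 5) (-(vd (σ 0) (σ 1) + vd (σ 2) (σ 1))) := by
    decide +kernel
  obtain ⟨k1, σ, k2⟩ := key i hi0
  obtain ⟨n, hn, hσ⟩ := D.F.perm σ
  have e : g * el D.F bv * g⁻¹ = n * z⁻¹ * n⁻¹ := by
    rw [hb, (el_eq_iff D.F k1 ((by decide +kernel : ∀ a b c : Fin 6, wsum (-(vd a b + vd c b)) = 0) _ _ _)).2 k2,
      ← el_inv, ← el_mul, el_vd, el_vd, ← hσ, ← hσ, conj_mul, ← D.F.hz, conj_inv]
  have e' : (g⁻¹ * n) * z * (g⁻¹ * n)⁻¹ = (el D.F bv)⁻¹ := by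
    rw [show (g⁻¹ * n) * z * (g⁻¹ * n)⁻¹ = g⁻¹ * (n * z⁻¹ * n⁻¹)⁻¹ * g by group, ← e]
    group
  obtain ⟨τ, hτ⟩ := D.points (g⁻¹ * n) (by rw [e']; exact inv_mem (el_mem D.F bv))
  obtain ⟨t1, -, t3⟩ := b_not_point τ
  rw [e', el_inv] at hτ
  have hs := (el_eq_iff D.F (by decide +kernel) t1).1
    (hτ.trans (by rw [← el_mul, el_vd, el_vd]))
  exact t3 fun c => by
    have := hs c
    simp only [Pi.neg_apply] at this ⊢
    linear_combination -this

include B

/-- An element of the centraliser of the product normalises the frame, if it fixes the blocks at the point. -/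
theorem Base.cent_b (H : Hyp z Q) {g : G} (hgA : g ∈ cA A) (hb : Commute g (el D.F bv)) :
    Commute ((mv D 3)⁻¹ * g * mv D 3) z ∧ Commute ((mv D 3)⁻¹ * g * mv D 3) (D.F.j 2 4) := by
  have hga : Commute g (ra D) := (mem_centralizer_iff.1 hgA _ B.mem).symm
  set n := mv D 3
  have conj' : ∀ {w : G}, Commute g (n * w * n⁻¹) → Commute (n⁻¹ * g * n) w := fun {w} h => by
    have := h.map (MulAut.conj n⁻¹).toMonoidHom
    simp only [MulEquiv.coe_toMonoidHom, MulAut.conj_apply, inv_inv] at this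
    rwa [show n⁻¹ * (n * w * n⁻¹) * n = w by group] at this
  refine ⟨conj' ?_, conj' ?_⟩
  · rw [mv_z]
    obtain ⟨i, hi⟩ : ∃ i : Fin 3, D.pt 3 = (el D.F bv)⁻¹ * ra D ^ i.val := by
      have key : ∃ i : Fin 3, Same (vd 0 (up 3) + vd 1 (up 3)) (-bv + i.val • vd 4 5) := by decide +kernel
      obtain ⟨i, hi⟩ := key
      refine ⟨i, ?_⟩
      have hw : ∀ i : Fin 3, wsum (-bv + i.val • vd 4 5) = 0 := by decide +kernel
      show D.F.j 0 (up 3) * D.F.j 1 (up 3) = _
      rw [← el_vd, ← el_vd, el_mul, (el_eq_iff D.F (by decide +kernel) (hw i)).2 hi, ← el_mul, ← el_inv,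
        ← el_pow, el_vd]
      rfl
    rw [hi]
    exact hb.inv_right.mul_right (hga.pow_right _)
  · rw [mv_j, show Equiv.swap (2 : Fin 6) (up 3) 2 = 5 by decide, show Equiv.swap (2 : Fin 6) (up 3) 4 = 4 by decide,
      ← j_symm]
    exact hga.inv_right

variable {h : Conf (XQ A)} (hJ : h.J = img A D.F.J) (hx : h.x = B.zX)
include hJ hx

/-- In the kind eight with self-centralising frame the coordinate centraliser is local. -/
theorem Base.loc_e1 (H : Hyp z Q) (hk : h.k = .eight) (hCJ : centralizer (D.F.J : Set G) = D.F.J) :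
    centralizer ({h.j e1} : Set (XQ A)) ≤ h.N := by
  classical
  by_contra hb
  have hAa : A ≤ zpowers (ra D) := fun x hx => B.inter ⟨hCJ.le (B.le hx), hx⟩
  obtain ⟨w, hw, hwe⟩ : h.j e1 ∈ img A D.F.J := hJ ▸ h.j_mem e1
  obtain ⟨u, hu, hwu⟩ := el_surj D.F hw
  -- the shape of the representative
  have key : ∀ u : V6, wsum u = 0 → (∃ i : Fin 3, Same u (i.val • vd 4 5)) ∨
      (∃ σ ∈ ([1, Equiv.swap 2 3, Equiv.swap 1 3, Equiv.swap 0 3] : List (Equiv.Perm (Fin 6))), ∃ i : Fin 3,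
        Same u (vd (σ 0) (σ 1) + vd (σ 2) (σ 1) + i.val • vd 4 5) ∨
        Same u (-(vd (σ 0) (σ 1) + vd (σ 2) (σ 1)) + i.val • vd 4 5)) ∨
      (∃ p q : Fin 6, p ≠ q ∧ p < 4 ∧ q < 4 ∧ ∃ i : Fin 3, Same u (vd p q + i.val • vd 4 5)) ∨
      (∃ σ ∈ ([1, Equiv.swap 1 2, Equiv.swap 0 2] : List (Equiv.Perm (Fin 6))), ∃ i : Fin 3,
        Same u ((fun c => bv (σ c)) + i.val • vd 4 5) ∨ Same u (-(fun c => bv (σ c)) + i.val • vd 4 5)) := by
    decide +kernel
  have hmk : ∀ {v : V6} (i : Fin 3) (hv : wsum v = 0), Same u (v + i.val • vd 4 5) →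
      (QuotientGroup.mk ⟨el D.F v, B.J_cA (el_mem D.F v)⟩ : XQ A) = h.j e1 := by
    intro v i hv hs
    rw [← hwe]
    refine pmk_eq.2 ?_
    have hws : wsum (v + i.val • vd 4 5) = 0 := by
      have hi : ∀ i : Fin 3, wsum (i.val • vd 4 5) = 0 := by decide +kernel
      have := hi i
      linear_combination (norm := (simp only [wsum, Pi.add_apply]; ring)) hv + this
    show (el D.F v)⁻¹ * (w : G) ∈ A
    rw [show (w : G) = el D.F u from hwu, (el_eq_iff D.F hu hws).2 hs, ← el_mul, inv_mul_cancel_left, ← el_pow, el_vd]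
    exact pow_mem B.mem _
  have hXE : ∀ k, ∀ v : Sym9ThreeLocal.A, XLike k v → k = .eight → v ≠ e1 := by decide +kernel
  rcases key u hu with ⟨i, hs⟩ | ⟨σ, hσm, i, hs⟩ | ⟨p, q, hpq, hp, hq, i, hs⟩ | ⟨σ, hσm, i, hs⟩
  · -- trivial
    have e := hmk (v := 0) i (by decide +kernel) (by rwa [zero_add])
    refine h.j_ne (a := e1) (by decide +kernel) (e.symm.trans (pmk_one.2 ?_))
    show el D.F 0 ∈ A
    rw [el_zero]; exact one_mem A
  · -- a point
    have h45 : σ 4 = 4 ∧ σ 5 = 5 := (by decide +kernel : ∀ σ ∈ ([1, Equiv.swap 2 3, Equiv.swap 1 3,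
      Equiv.swap 0 3] : List (Equiv.Perm (Fin 6))), σ 4 = 4 ∧ σ 5 = 5) σ hσm
    obtain ⟨m, hm, hmA, hσ⟩ := B.lift σ h45.1 h45.2
    obtain ⟨q, hq, -⟩ := h.exists_act (B.mem_N hJ hm hmA)
    have hT : m * z * m⁻¹ = el D.F (vd (σ 0) (σ 1) + vd (σ 2) (σ 1)) := by
      rw [← el_mul, el_vd, el_vd, ← hσ, ← hσ, conj_mul, ← D.F.hz]
    have hq' : h.j (act q xA) = (QuotientGroup.mk ⟨el D.F (vd (σ 0) (σ 1) + vd (σ 2) (σ 1)),
        B.J_cA (el_mem D.F _)⟩ : XQ A) := by
      rw [← hq, show h.j xA = h.x from rfl, hx, Base.zX, ← QuotientGroup.mk_inv, ← QuotientGroup.mk_mul,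
        ← QuotientGroup.mk_mul]
      exact congrArg _ (Subtype.ext hT)
    have hw3 : ∀ a b c : Fin 6, wsum (vd a b + vd c b) = 0 ∧ wsum (-(vd a b + vd c b)) = 0 := by decide +kernel
    rcases hs with hs | hs
    · exact hXE _ _ ⟨q, q.2, Or.inl rfl⟩ hk (h.j_inj (hq'.trans (hmk i (hw3 _ _ _).1 hs)))
    · refine hXE _ _ ⟨q, q.2, Or.inr (inv_inv _).symm⟩ hk (h.j_inj ?_)
      rw [map_inv, hq', ← QuotientGroup.mk_inv]
      refine Eq.trans ?_ (hmk i (hw3 _ _ _).2 hs)
      exact congrArg _ (Subtype.ext (el_inv D.F _))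
  · -- a root: there are too many
    let roots : Fin 7 → Fin 6 × Fin 6 := ![(0, 1), (1, 0), (0, 2), (2, 0), (0, 3), (3, 0), (1, 2)]
    have hrs : ∀ r : Fin 6 × Fin 6, r.1 ≠ r.2 → r.1 < 4 → r.2 < 4 → ∀ p q : Fin 6, p ≠ q → p < 4 → q < 4 →
        ∃ σ : Equiv.Perm (Fin 6), σ 4 = 4 ∧ σ 5 = 5 ∧ σ p = r.1 ∧ σ q = r.2 := by decide +kernel
    have horb : ∀ r : Fin 7, ∃ v : Sym9ThreeLocal.A, (∃ q : W, act q e1 = v) ∧
        h.j v = (QuotientGroup.mk ⟨D.F.j (roots r).1 (roots r).2, B.J_cA (j_mem D.F _ _)⟩ : XQ A) := by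
      intro r
      obtain ⟨σ, h4, h5, hp', hq'⟩ := hrs (roots r) (by revert r; decide +kernel) (by revert r; decide +kernel)
        (by revert r; decide +kernel) p q hpq hp hq
      obtain ⟨m, hm, hmA, hσ⟩ := B.lift σ h4 h5
      obtain ⟨g, hg, -⟩ := h.exists_act (B.mem_N hJ hm hmA)
      refine ⟨act g e1, ⟨g, rfl⟩, ?_⟩
      rw [← hg, ← hmk i ((by decide +kernel : ∀ a b : Fin 6, wsum (vd a b) = 0) p q) hs, ← QuotientGroup.mk_inv,
        ← QuotientGroup.mk_mul, ← QuotientGroup.mk_mul]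
      exact congrArg _ (Subtype.ext (show m * el D.F (vd p q) * m⁻¹ = _ by rw [el_vd, hσ, hp', hq']))
    choose v hv hvj using horb
    have hinj : Function.Injective v := by
      intro r r' e
      have h1 := pmk_eq.1 ((hvj r).symm.trans ((congrArg h.j e).trans (hvj r')))
      have h2 := hAa h1
      obtain ⟨k, hk'⟩ := mem_zpowers_iff.1 h2
      have h3 : ra D ^ (3 : ℤ) = 1 := by
        rw [show (3 : ℤ) = 1 + 1 + 1 from rfl, zpow_add, zpow_add, zpow_one]; exact D.F.cube 4 5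
      rw [← Int.emod_add_mul_ediv k 3, zpow_add, zpow_mul, h3, one_zpow, mul_one] at hk'
      have kd : ∀ r r' : Fin 7, ∀ i : Fin 3,
          wsum (-(vd (roots r).1 (roots r).2) + vd (roots r').1 (roots r').2) = 0 ∧ wsum (i.val • vd 4 5) = 0 ∧
          (Same (-(vd (roots r).1 (roots r).2) + vd (roots r').1 (roots r').2) (i.val • vd 4 5) → r = r') := by
        decide +kernel
      obtain ⟨k1, k2, k3⟩ := kd r r' ⟨(k % 3).toNat, by omega⟩
      refine k3 ((el_eq_iff D.F k1 k2).1 ?_)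
      rw [← el_mul, ← el_inv, el_vd, el_vd, ← el_pow, el_vd]
      refine hk'.symm.trans ?_
      show ra D ^ (k % 3) = ra D ^ (k % 3).toNat
      rw [← zpow_natCast, Int.toNat_of_nonneg (by omega)]
    have hsix : (Finset.univ.filter fun v : Sym9ThreeLocal.A => ∃ q : W, act q e1 = v).card = 6 := by
      decide +kernel
    have := Finset.card_le_card (show Finset.univ.image v ⊆
        (Finset.univ.filter fun v : Sym9ThreeLocal.A => ∃ q : W, act q e1 = v) from fun x hx => by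
      obtain ⟨r, -, rfl⟩ := Finset.mem_image.1 hx
      exact Finset.mem_filter.2 ⟨Finset.mem_univ _, hv r⟩)
    rw [Finset.card_image_of_injective _ hinj, hsix] at this
    simp at this
  · -- the product of two orthogonal roots
    have h45 : σ 4 = 4 ∧ σ 5 = 5 ∧ σ.symm = σ ∧ wsum (fun c => bv (σ c)) = 0 :=
      (by decide +kernel : ∀ σ ∈ ([1, Equiv.swap 1 2, Equiv.swap 0 2] : List (Equiv.Perm (Fin 6))),
        σ 4 = 4 ∧ σ 5 = 5 ∧ σ.symm = σ ∧ wsum (fun c => bv (σ c)) = 0) σ hσm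
    obtain ⟨m, hm, hmA, hσ⟩ := B.lift σ h45.1 h45.2.1
    set M : XQ A := QuotientGroup.mk ⟨m, hmA⟩
    set b : XQ A := QuotientGroup.mk ⟨el D.F bv, B.J_cA (el_mem D.F _)⟩
    have hMb : M * b * M⁻¹ = (QuotientGroup.mk ⟨el D.F (fun c => bv (σ c)), B.J_cA (el_mem D.F _)⟩ : XQ A) := by
      simp only [M, b, ← QuotientGroup.mk_inv, ← QuotientGroup.mk_mul]
      refine congrArg _ (Subtype.ext ?_)
      have := conj_el D.F hσ (v := bv) (by decide +kernel)
      rwa [h45.2.2.1] at this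
    have he : h.j e1 = M * b * M⁻¹ ∨ h.j e1 = (M * b * M⁻¹)⁻¹ := by
      rcases hs with hs | hs
      · exact Or.inl ((hmk i h45.2.2.2 hs).symm.trans hMb.symm)
      · refine Or.inr ((hmk i ?_ hs).symm.trans ?_)
        · have := h45.2.2.2
          linear_combination (norm := (simp only [wsum, Pi.neg_apply]; ring)) -this
        · rw [hMb, ← QuotientGroup.mk_inv]
          exact congrArg _ (Subtype.ext (el_inv D.F _).symm)
    have hcb : ∀ y ∈ centralizer ({h.j e1} : Set (XQ A)), Commute (M⁻¹ * y * M) b := by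
      intro y hy
      have h1 : Commute y (M * b * M⁻¹) := by
        have h0 : Commute y (h.j e1) := mem_centralizer_singleton_iff.1 hy
        rcases he with e | e <;> rw [e] at h0
        · exact h0
        · simpa using h0.inv_right
      have := h1.map (MulAut.conj M⁻¹).toMonoidHom
      simp only [MulEquiv.coe_toMonoidHom, MulAut.conj_apply, inv_inv] at this
      rwa [show M⁻¹ * (M * b * M⁻¹) * M = b by group] at this
    -- representatives commute with the product, so act at the point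
    have hrep : ∀ y ∈ centralizer ({h.j e1} : Set (XQ A)), ∃ g : ↥(cA A), QuotientGroup.mk g = M⁻¹ * y * M ∧
        Commute ((mv D 3)⁻¹ * (g : G) * mv D 3) z ∧ Commute ((mv D 3)⁻¹ * (g : G) * mv D 3) (D.F.j 2 4) := by
      intro y hy
      obtain ⟨g, hg⟩ := QuotientGroup.mk_surjective (M⁻¹ * y * M)
      refine ⟨g, hg, B.cent_b H g.2 (b_fix H (mem_centralizer_iff.1 g.2 _ B.mem).symm (hAa ?_))⟩
      have h1 := hcb y hy
      rw [← hg] at h1
      have h2 : (QuotientGroup.mk (g * ⟨el D.F bv, B.J_cA (el_mem D.F _)⟩ * g⁻¹) : XQ A) = b := by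
        rw [QuotientGroup.mk_mul, QuotientGroup.mk_mul, QuotientGroup.mk_inv]
        exact mul_inv_eq_iff_eq_mul.2 h1
      exact pmk_eq.1 h2.symm
    -- those fixing the blocks there lie in the normaliser
    have hMN : M ∈ h.N := B.mem_N hJ hm hmA
    have hfixN : ∀ (g : ↥(cA A)), Commute ((mv D 3)⁻¹ * (g : G) * mv D 3) z →
        Commute ((mv D 3)⁻¹ * (g : G) * mv D 3) (D.F.j 2 4) →
        (∀ i x, x ∈ D.Qi i ↔ (mv D 3)⁻¹ * (g : G) * mv D 3 * x * ((mv D 3)⁻¹ * (g : G) * mv D 3)⁻¹ ∈ D.Qi i) →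
        M * (QuotientGroup.mk g : XQ A) * M⁻¹ ∈ h.N := by
      intro g h1 h2 h3
      have hN := root_cross H (mem_centralizer_singleton_iff.2 h1.eq) h3 h2
      have hg : (g : G) ∈ normalizer (D.F.J : Set G) := by
        have hn : mv D 3 ∈ normalizer (D.F.J : Set G) := (mv_mem D 3).1
        have := mul_mem (mul_mem hn hN) (inv_mem hn)
        rwa [show mv D 3 * ((mv D 3)⁻¹ * (g : G) * mv D 3) * (mv D 3)⁻¹ = g by group] at this
      exact mul_mem (mul_mem hMN (B.mem_N hJ hg g.2)) (inv_mem hMN)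
    set C := centralizer ({h.j e1} : Set (XQ A))
    have hpair : ∀ y ∈ C, ∀ y' ∈ C, y ∉ h.N → y' ∉ h.N → y * y' ∈ h.N := by
      intro y hy y' hy' hyN hyN'
      obtain ⟨g, hg, g1, g2⟩ := hrep y hy
      obtain ⟨g', hg', g1', g2'⟩ := hrep y' hy'
      set f := (mv D 3)⁻¹ * (g : G) * mv D 3
      set f' := (mv D 3)⁻¹ * (g' : G) * mv D 3
      have hff : (mv D 3)⁻¹ * ((g * g' : ↥(cA A)) : G) * mv D 3 = f * f' := by
        simp only [f, f', Subgroup.coe_mul]; group
      have hswap : ∀ (g : ↥(cA A)) (y : XQ A), QuotientGroup.mk g = M⁻¹ * y * M → y ∉ h.N →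
          Commute ((mv D 3)⁻¹ * (g : G) * mv D 3) z → Commute ((mv D 3)⁻¹ * (g : G) * mv D 3) (D.F.j 2 4) →
          ∀ i x, x ∈ D.Qi i ↔
            (mv D 3)⁻¹ * (g : G) * mv D 3 * x * ((mv D 3)⁻¹ * (g : G) * mv D 3)⁻¹ ∈ D.Qi (Equiv.swap 0 1 i) := by
        intro g y hg hyN c1 c2
        set f := (mv D 3)⁻¹ * (g : G) * mv D 3
        have hfz : f ∈ centralizer ({z} : Set G) := mem_centralizer_singleton_iff.2 c1.eq
        choose k hk using D.perm f hfz
        have hinj : Function.Injective k := by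
          intro i i' e
          by_contra hne
          obtain ⟨x, hx, hxz⟩ := block_ne D i
          have hx' : x ∈ D.Qi i' := (hk i' x).2 (e ▸ (hk i x).1 hx)
          exact hxz (D.centre i x hx fun w hw => (D.comm i i' hne w hw x hx').symm)
        have hcases : k 0 = 0 ∧ k 1 = 1 ∨ k 0 = 1 ∧ k 1 = 0 := by
          have : ∀ k : Fin 2 → Fin 2, Function.Injective k → k 0 = 0 ∧ k 1 = 1 ∨ k 0 = 1 ∧ k 1 = 0 := by decide
          exact this k hinj
        rcases hcases with ⟨e0, e1'⟩ | ⟨e0, e1'⟩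
        · exfalso
          refine hyN ?_
          have := hfixN g c1 c2 fun i => by
            obtain rfl | rfl : i = 0 ∨ i = 1 := by omega
            · intro x; rw [hk 0 x, e0]
            · intro x; rw [hk 1 x, e1']
          rwa [hg, show M * (M⁻¹ * y * M) * M⁻¹ = y by group] at this
        · intro i
          obtain rfl | rfl : i = 0 ∨ i = 1 := by omega
          · intro x; rw [hk 0 x, e0, Equiv.swap_apply_left]
          · intro x; rw [hk 1 x, e1', Equiv.swap_apply_right]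
      have h1 := hswap g y hg hyN g1 g2
      have h2 := hswap g' y' hg' hyN' g1' g2'
      have := hfixN (g * g') (by rw [hff]; exact g1.mul_left g1') (by rw [hff]; exact g2.mul_left g2') fun i x => by
        rw [hff, h2 i x, h1 _ (f' * x * f'⁻¹), Equiv.swap_apply_self,
          show f * (f' * x * f'⁻¹) * f⁻¹ = f * f' * x * (f * f')⁻¹ by group]
      rwa [QuotientGroup.mk_mul, hg, hg', show M * (M⁻¹ * y * M * (M⁻¹ * y' * M)) * M⁻¹ = y * y' by group] at this
    -- the counts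
    obtain ⟨π, hπ, hker⟩ := h.facts.big hk hb
    have hC : Nat.card ↥C = 2160 := by
      have h1 := π.ker.card_mul_index
      rw [index_ker, MonoidHom.range_eq_top.2 hπ, card_top, Nat.card_perm, Nat.card_fin,
        show π.ker = (zpowers (h.j e1)).subgroupOf C from Subgroup.ext fun y => by
          rw [MonoidHom.mem_ker, hker, mem_subgroupOf],
        Nat.card_congr (subgroupOfEquivOfLe (zpowers_le.2 (mem_centralizer_singleton_iff.2 rfl))).toEquiv,
        Nat.card_zpowers, h.order_j (by decide +kernel)] at h1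
      rw [← h1]; decide
    have hCN : Nat.card ↥(C ⊓ h.N) ≤ 216 := by
      have hf := card_stab_e1
      have hmem : ∀ y : ↥(C ⊓ h.N), ∃ m : Mf, h.emb hk m = y ∧ act m.right e1 = e1 := by
        rintro ⟨y, hyC, hyN⟩
        obtain ⟨m, rfl⟩ := h.exists_emb hk hyN
        refine ⟨m, rfl, h.j_inj ?_⟩
        rw [← h.mon_conj hk]
        have h0 : Commute (h.emb hk m) (h.j e1) := mem_centralizer_singleton_iff.1 hyC
        have e : h.emb hk m = h.j m.left * h.mon hk m.right := by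
          rw [← h.emb_inl hk, ← h.emb_inr hk, ← map_mul, SemidirectProduct.inl_left_mul_inr_right]
        rw [e] at h0
        have := h0.eq
        calc h.mon hk m.right * h.j e1 * (h.mon hk m.right)⁻¹
            = (h.j m.left)⁻¹ * (h.j m.left * h.mon hk m.right * h.j e1) * (h.mon hk m.right)⁻¹ := by group
          _ = (h.j m.left)⁻¹ * (h.j e1 * h.j m.left) := by rw [this]; group
          _ = h.j e1 := by rw [h.j_comm e1, inv_mul_cancel_left]
      choose f hf1 hf2 using hmem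
      rw [← hf, ← Nat.card_eq_fintype_card.trans (Fintype.card_coe _)]
      exact Nat.card_le_card_of_injective (fun y => ⟨f y, Finset.mem_filter.2 ⟨Finset.mem_univ _, hf2 y⟩⟩)
        fun y y' e => Subtype.ext (by rw [← hf1 y, ← hf1 y', show f y = f y' from congrArg Subtype.val e])
    by_cases hall : ∃ y0 ∈ C, y0 ∉ h.N
    · obtain ⟨y0, hy0, hy0N⟩ := hall
      have hle : Nat.card ↥C ≤ Nat.card (↥(C ⊓ h.N) ⊕ ↥(C ⊓ h.N)) := by
        refine Nat.card_le_card_of_injective (fun y : ↥C => if hy : (y : XQ A) ∈ h.N then Sum.inl ⟨y, y.2, hy⟩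
          else Sum.inr ⟨y * y0, mul_mem y.2 hy0, hpair y y.2 y0 hy0 hy hy0N⟩) fun y y' e => ?_
        by_cases hy : (y : XQ A) ∈ h.N <;> by_cases hy' : (y' : XQ A) ∈ h.N <;>
          simp only [hy, hy', dite_true, dite_false, Sum.inl.injEq, Sum.inr.injEq, Subtype.mk.injEq,
            reduceCtorEq] at e
        · exact Subtype.ext (congrArg Subtype.val e :)
        · exact Subtype.ext (mul_right_cancel (congrArg Subtype.val e :))
      rw [hC, Nat.card_sum] at hle
      omega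
    · push Not at hall
      exact hb hall

end Cfsg.Agent.U62Three.K
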