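import Cfsg.Agent.U62Three.K.P.Pair

/-!
# The four quaternion groups: commutation and root centralisers at every point
-/

set_option autoImplicit false
set_option linter.unusedSectionVars false

open Subgroup

namespace Cfsg.Agent.U62Three.K

universe u

variable {G : Type u} [Group G] [Finite G] {z : G} {Q : Subgroup G} (D : Facts z Q)

theorem Rq_card (i : Fin 4) : Nat.card ↥(Rq D i) = 8 := by rw [Rq, cj_card]; exact (cover_R D 0).2.1

/-- An element of the normaliser moving a point to a point moves its quaternion group. -/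
theorem nt_R (H : Hyp z Q) {n : G} (hn : n ∈ nt D) {i m : Fin 4}
    (he : n * D.pt i * n⁻¹ = D.pt m ∨ n * D.pt i * n⁻¹ = (D.pt m)⁻¹) : cj n (Rq D i) = Rq D m := by
  have hnt : Commute n (D.t 0) := mem_centralizer_singleton_iff.1 hn.2
  refine eq_of_le_of_card_ge (Rq_max D H m ?_ ?_ ?_) (by rw [cj_card, Rq_card, Rq_card])
  · rintro _ ⟨r, hr, rfl⟩
    obtain ⟨hrt, hrp⟩ := Rq_le D i hr
    show n * r * n⁻¹ ∈ _
    refine ⟨mem_centralizer_singleton_iff.2
      ((hnt.mul_left (mem_centralizer_singleton_iff.1 hrt : Commute r (D.t 0))).mul_left hnt.inv_left).eq,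
      mem_centralizer_singleton_iff.2 ?_⟩
    have h1 : Commute r (D.pt i) := mem_centralizer_singleton_iff.1 hrp
    have h2 := h1.map (MulAut.conj n).toMonoidHom
    simp only [MulEquiv.coe_toMonoidHom, MulAut.conj_apply] at h2
    rcases he with e | e <;> rw [e] at h2
    · exact h2.eq
    · simpa using h2.inv_right.eq
  · rw [cj_card, Rq_card]; decide
  · intro y hy
    have hy' : n⁻¹ * y * n ∈ D.F.J ⊓ centralizer ({D.t 0} : Set G) := by
      refine ⟨?_, mem_centralizer_singleton_iff.2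
        ((hnt.inv_left.mul_left (mem_centralizer_singleton_iff.1 hy.2 : Commute y (D.t 0))).mul_left hnt).eq⟩
      have := (mem_normalizer_iff.1 (inv_mem hn.1) y).1 hy.1
      rwa [inv_inv] at this
    have hle : D.F.J ⊓ centralizer ({D.t 0} : Set G) ≤ normalizer (Rq D i : Set G) := fun w hw =>
      Rq_norm D H i ⟨hw.2, mem_centralizer_singleton_iff.2
        (frame_commute hw.1 (mul_mem (j_mem D.F _ _) (j_mem D.F _ _))).eq⟩
    refine mem_normalizer_fintype fun w hw => ?_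
    rw [SetLike.mem_coe, mem_cj] at hw ⊢
    have := (mem_normalizer_iff.1 (hle hy') _).1 hw
    rwa [show n⁻¹ * y * n * (n⁻¹ * w * n) * (n⁻¹ * y * n)⁻¹ = n⁻¹ * (y * w * y⁻¹) * n by group] at this

/-- A permutation of the four places is realised in the normaliser, carrying the quaternion groups along. -/
theorem lift_four (H : Hyp z Q) (σ : Equiv.Perm (Fin 4)) :
    ∃ n ∈ nt D, (∀ k, n * D.pt k * n⁻¹ = D.pt (σ k)) ∧
      (∀ a b, n * D.F.j (up a) (up b) * n⁻¹ = D.F.j (up (σ a)) (up (σ b))) ∧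
      ∀ k, cj n (Rq D k) = Rq D (σ k) := by
  have key : ∀ σ : Equiv.Perm (Fin 4), ∃ τ : Equiv.Perm (Fin 6),
      (∀ a, τ (Equiv.swap 0 1 a) = Equiv.swap 0 1 (τ a)) ∧ τ 0 = 0 ∧ τ 1 = 1 ∧
        ∀ k, τ (up k) = up (σ k) := by decide +kernel
  obtain ⟨τ, h1, h0, h01, h2⟩ := key σ
  obtain ⟨n, hn, hj⟩ := lift_perm D τ h1
  have hpt : ∀ k, n * D.pt k * n⁻¹ = D.pt (σ k) := fun k => by
    show n * (D.F.j 0 (up k) * D.F.j 1 (up k)) * n⁻¹ = D.F.j 0 (up (σ k)) * D.F.j 1 (up (σ k))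
    rw [← conj_mul, hj, hj, h0, h01, h2]
  exact ⟨n, hn, hpt, fun a b => by rw [hj, h2, h2], fun k => nt_R D H hn (Or.inl (hpt k))⟩

/-- Two quaternion groups commute. -/
theorem Rq_comm (H : Hyp z Q) {i k : Fin 4} (hik : i ≠ k) :
    ∀ a ∈ Rq D i, ∀ b ∈ Rq D k, Commute a b := by
  have h01 : ∀ r ∈ D.R 0, ∀ s ∈ Rq D 1, Commute r s := by
    by_cases hw : 3 ^ 7 ∣ Nat.card ↥(centralizer ({z} : Set G))
    · obtain ⟨W⟩ := D.wide hw
      exact (base_wide H W).comm01 H (Or.inr ⟨W, mem_sup_right (mem_zpowers _)⟩)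
    · exact (base_narrow H hw).comm01 H (Or.inl (D.narrow hw))
  have key : ∀ i k : Fin 4, i ≠ k → ∃ σ : Equiv.Perm (Fin 4), σ 0 = i ∧ σ 1 = k := by decide +kernel
  obtain ⟨σ, hi, hk⟩ := key i k hik
  obtain ⟨n, -, -, -, hR⟩ := lift_four D H σ
  intro a ha b hb
  have e0 := hR 0
  have e1 := hR 1
  rw [hi, Rq_zero D H] at e0
  rw [hk] at e1
  rw [← e0] at ha
  rw [← e1] at hb
  obtain ⟨r, hr, rfl⟩ := ha
  obtain ⟨s, hs, rfl⟩ := hb
  exact (h01 r hr s hs).map (MulAut.conj n).toMonoidHom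

/-- A root off a point centralises its quaternion group. -/
theorem Rq_root (H : Hyp z Q) {i k l : Fin 4} (hik : i ≠ k) (hil : i ≠ l) :
    ∀ r ∈ Rq D i, Commute (D.F.j (up k) (up l)) r := by
  obtain ⟨n, -, -, hj, hR⟩ := lift_four D H (Equiv.swap 0 i)
  have hR0 := hR 0
  rw [Equiv.swap_apply_left, Rq_zero D H] at hR0
  intro r hr
  rw [← hR0] at hr
  obtain ⟨s, hs, rfl⟩ := hr
  have hne : ∀ k, i ≠ k → Equiv.swap 0 i k ≠ 0 := fun k hk e => hk (by
    have := congrArg (Equiv.swap 0 i) e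
    rw [Equiv.swap_apply_self, Equiv.swap_apply_left] at this
    exact this.symm)
  have h := (root_zero_comm D (hne k hik) (hne l hil) hs).symm.map (MulAut.conj n).toMonoidHom
  simp only [MulEquiv.coe_toMonoidHom, MulAut.conj_apply] at h
  rwa [hj, Equiv.swap_apply_self, Equiv.swap_apply_self] at h

/-- The elements of order prime to three centralising a root, `t` and the quaternion group at a point off the root
lie in the quaternion group at the fourth point. -/
theorem root_max (H : Hyp z Q) {i m k l : Fin 4} (him : i ≠ m) (hkl : k ≠ l) (hik : i ≠ k) (hil : i ≠ l)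
    (hmk : m ≠ k) (hml : m ≠ l) {x : G} (hxt : Commute x (D.t 0)) (hxr : Commute x (D.F.j (up k) (up l)))
    (hxR : ∀ r ∈ Rq D i, Commute x r) (hxo : (orderOf x).Coprime 3) : x ∈ Rq D m := by
  have key : ∀ i m k l : Fin 4, i ≠ m → k ≠ l → i ≠ k → i ≠ l → m ≠ k → m ≠ l →
      ∃ σ : Equiv.Perm (Fin 4), σ 0 = i ∧ σ 1 = m ∧ σ 2 = k ∧ σ 3 = l := by decide +kernel
  obtain ⟨σ, si, sm, sk, sl⟩ := key i m k l him hkl hik hil hmk hml
  obtain ⟨n, hn, -, hj, hR⟩ := lift_four D H σ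
  have hnt : Commute n (D.t 0) := mem_centralizer_singleton_iff.1 hn.2
  have hconj : ∀ {w : G}, Commute x (n * w * n⁻¹) → Commute (n⁻¹ * x * n) w := fun {w} h => by
    have := h.map (MulAut.conj n⁻¹).toMonoidHom
    simp only [MulEquiv.coe_toMonoidHom, MulAut.conj_apply, inv_inv] at this
    rwa [show n⁻¹ * (n * w * n⁻¹) * n = w by group] at this
  have hy : n⁻¹ * x * n ∈ YY D := by
    refine ⟨⟨mem_centralizer_singleton_iff.2 (hconj (by rwa [hnt.eq, mul_inv_cancel_right])).eq,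
      mem_centralizer_singleton_iff.2 (hconj ?_).eq⟩, mem_centralizer_iff.2 fun r hr => (hconj ?_).eq.symm⟩
    · show Commute x (n * D.F.j (up 2) (up 3) * n⁻¹)
      rwa [hj, sk, sl]
    · refine hxR _ ?_
      rw [← si, ← hR 0, Rq_zero D H]
      exact ⟨r, hr, rfl⟩
  have h := root_max_zero D H hy (by
    rw [show n⁻¹ * x * n = MulAut.conj n⁻¹ x by simp, MulEquiv.orderOf_eq]; exact hxo)
  rw [← sm, ← hR 1, mem_cj]
  exact h

end Cfsg.Agent.U62Three.K
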