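import Cfsg.Agent.U62Three.K.P.Base

/-!
# Elements centralising `z` and a root across the triples
-/

set_option autoImplicit false
set_option linter.unusedSectionVars false

open Subgroup Pointwise

namespace Cfsg.Agent.U62Three.K

universe u

variable {G : Type u} [Group G] [Finite G] {z : G} {Q : Subgroup G} {D : Facts z Q}

/-- A member of the second block permutes only the last three places. -/
theorem Qi1_act (H : Hyp z Q) {x : G} (hx : x ∈ D.Qi 1) : ∃ σ : Equiv.Perm (Fin 6),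
    (∀ a b, x * D.F.j a b * x⁻¹ = D.F.j (σ a) (σ b)) ∧ σ 0 = 0 ∧ σ 1 = 1 ∧ σ 2 = 2 := by
  obtain ⟨σ, hσ⟩ := D.mono x (Qi1_normJ D H hx)
  have h01 : x * D.F.j 0 1 * x⁻¹ = D.F.j 0 1 := by
    rw [(D.comm 1 0 (by decide) x hx _ D.j_zero.1).eq, mul_inv_cancel_right]
  have h12 : x * D.F.j 1 2 * x⁻¹ = D.F.j 1 2 := by
    rw [(D.comm 1 0 (by decide) x hx _ D.j_zero.2).eq, mul_inv_cancel_right]
  rcases hσ with hσ | hσ
  · rw [hσ] at h01 h12
    exact ⟨σ, hσ, (j_inj D.F (by decide) h01.symm).1.symm, (j_inj D.F (by decide) h01.symm).2.symm,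
      (j_inj D.F (by decide) h12.symm).2.symm⟩
  · rw [hσ] at h01 h12
    exact absurd (σ.injective ((j_inj D.F (by decide) h01.symm).2.symm.trans
      (j_inj D.F (by decide) h12.symm).1)) (by decide)

/-- The block meets the centraliser of a root moved by its cycle only in the frame. -/
theorem block_root (H : Hyp z Q) {i : Fin 2} {p q : Fin 6} {x : G} (hpq : p ≠ q) {u : G} (hu : u ∈ D.Qi i)
    (huz : u ∉ zpowers z) (huc : Commute u (D.F.j p q))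
    (hact : ∀ w ∈ D.Qi i, ∃ σ : Equiv.Perm (Fin 6),
      (∀ a b, w * D.F.j a b * w⁻¹ = D.F.j (σ a) (σ b)) ∧ ((σ p = p ∧ σ q = q) → σ = 1))
    (hx : x ∈ D.Qi i) (hxc : Commute x (D.F.j p q)) (huJ : u ∈ D.F.J) : x ∈ zpowers z ⊔ zpowers u := by
  obtain ⟨σ, hσ, h1⟩ := hact x hx
  have e : x * D.F.j p q * x⁻¹ = D.F.j p q := by rw [hxc.eq, mul_inv_cancel_right]
  rw [hσ] at e
  obtain ⟨ep, eq'⟩ := j_inj D.F hpq e.symm
  have hs := h1 ⟨ep.symm, eq'.symm⟩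
  subst hs
  have hle : D.F.J ≤ centralizer ({x} : Set G) := by
    conv_lhs => rw [D.F.span]
    rw [closure_le]
    rintro _ ⟨⟨a, b⟩, rfl⟩
    exact mem_centralizer_singleton_iff.2 (mul_inv_eq_iff_eq_mul.1 (hσ a b)).symm
  exact cent_in_block D H hu huz hx (mem_centralizer_singleton_iff.1 (hle huJ))

/-- An element centralising `z` and the root joining the triples, fixing the blocks, normalises the frame. -/
theorem root_cross (H : Hyp z Q) {g : G} (hgz : g ∈ centralizer ({z} : Set G))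
    (hblock : ∀ i x, x ∈ D.Qi i ↔ g * x * g⁻¹ ∈ D.Qi i) (hg : Commute g (D.F.j 2 4)) :
    g ∈ normalizer (D.F.J : Set G) := by
  have hz : z = el D.F (vd 0 1 + vd 2 1) := by rw [← el_mul, el_vd, el_vd]; exact D.F.hz
  have hfix : ∀ (x : G) (σ : Equiv.Perm (Fin 6)), x ∈ Q →
      (∀ a b, x * D.F.j a b * x⁻¹ = D.F.j (σ a) (σ b)) →
      Same (vd (σ 0) (σ 1) + vd (σ 2) (σ 1)) (vd 0 1 + vd 2 1) ∧ σ * σ * σ = 1 := by
    intro x σ hx hσ
    refine ⟨(el_eq_iff D.F ((by decide +kernel : ∀ a b c : Fin 6, wsum (vd a b + vd c b) = 0) _ _ _)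
      (by decide +kernel)).1 ?_, Equiv.ext fun a => ?_⟩
    · rw [← hz, ← el_mul, el_vd, el_vd, ← hσ, ← hσ, conj_mul, ← D.F.hz, (z_comm_Q H hx).symm.eq,
        mul_inv_cancel_right]
    · obtain ⟨b, hb⟩ : ∃ b : Fin 6, a ≠ b := ⟨if a = 0 then 1 else 0, by fin_cases a <;> decide⟩
      have h3 : x * x * x = 1 := by rw [← D.cube x hx, pow_succ, pow_two]
      have h : x * (x * (x * D.F.j a b * x⁻¹) * x⁻¹) * x⁻¹ = D.F.j a b := by
        rw [show x * (x * (x * D.F.j a b * x⁻¹) * x⁻¹) * x⁻¹ = x * x * x * D.F.j a b * (x * x * x)⁻¹ by group,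
          h3, one_mul, inv_one, mul_one]
      rw [hσ, hσ, hσ] at h
      exact (j_inj D.F hb h.symm).1.symm
  have key : ∀ σ : Equiv.Perm (Fin 6), Same (vd (σ 0) (σ 1) + vd (σ 2) (σ 1)) (vd 0 1 + vd 2 1) →
      σ * σ * σ = 1 → σ 2 = 2 → σ 4 = 4 → ((σ 3 = 3 ∧ σ 5 = 5) ∨ (σ 0 = 0 ∧ σ 1 = 1)) → σ = 1 := by
    decide +kernel
  have hact : ∀ i, ∀ w ∈ D.Qi i, ∃ σ : Equiv.Perm (Fin 6),
      (∀ a b, w * D.F.j a b * w⁻¹ = D.F.j (σ a) (σ b)) ∧ ((σ 2 = 2 ∧ σ 4 = 4) → σ = 1) := by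
    intro i w hw
    fin_cases i
    · obtain ⟨σ, hσ, e3, e4, e5⟩ := Qi0_act H hw
      obtain ⟨k1, k2⟩ := hfix w σ (D.le 0 hw) hσ
      exact ⟨σ, hσ, fun e => key σ k1 k2 e.1 e4 (Or.inl ⟨e3, e5⟩)⟩
    · obtain ⟨σ, hσ, e0, e1, e2⟩ := Qi1_act H hw
      obtain ⟨k1, k2⟩ := hfix w σ (D.le 1 hw) hσ
      exact ⟨σ, hσ, fun e => key σ k1 k2 e2 e.2 (Or.inr ⟨e0, e1⟩)⟩
  have hc : ∀ {u : G}, u ∈ D.F.J → Commute (g * u * g⁻¹) (D.F.j 2 4) := fun {u} hu => by
    have h := (frame_commute hu (j_mem D.F 2 4)).map (MulAut.conj g).toMonoidHom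
    simp only [MulEquiv.coe_toMonoidHom, MulAut.conj_apply] at h
    rwa [hg.eq, mul_inv_cancel_right] at h
  refine normJ_of_lines D H hgz hblock ?_ ?_
  · exact block_root H (by decide) D.j_zero.1 (j_not_z D H 0 1 (by decide))
      (frame_commute (j_mem D.F _ _) (j_mem D.F _ _)) (hact 0) ((hblock 0 _).1 D.j_zero.1)
      (hc (j_mem D.F _ _)) (j_mem D.F _ _)
  · exact block_root H (by decide) D.j_one.1 (j_not_z D H 3 4 (by decide))
      (frame_commute (j_mem D.F _ _) (j_mem D.F _ _)) (hact 1) ((hblock 1 _).1 D.j_one.1)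
      (hc (j_mem D.F _ _)) (j_mem D.F _ _)

end Cfsg.Agent.U62Three.K
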