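import Cfsg.Agent.U62Three.K.P.Quot
import Cfsg.Agent.U62Three.K.P.Roots
import Cfsg.Agent.U62Three.K.P.Conf

/-!
# The kind of `C(A)/A`
-/

set_option autoImplicit false
set_option linter.unusedSectionVars false
set_option synthInstance.maxSize 4000
set_option synthInstance.maxHeartbeats 400000

open Subgroup

namespace Cfsg.Agent.U62Three.K

open Cfsg.Agent.Sp6Local
open Cfsg.Agent.Sym9ThreeLocal hiding Conf

universe u

variable {G : Type u} [Group G] [Finite G] {z : G} {Q : Subgroup G} {D : Facts z Q} {A : Subgroup G}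
  (B : Base D A)

include B

/-- A permutation fixing the last two places is realised in the centraliser of `A`. -/
theorem Base.lift (σ : Equiv.Perm (Fin 6)) (h4 : σ 4 = 4) (h5 : σ 5 = 5) :
    ∃ m ∈ normalizer (D.F.J : Set G), m ∈ cA A ∧ ∀ a b, m * D.F.j a b * m⁻¹ = D.F.j (σ a) (σ b) := by
  obtain ⟨m, hm, h⟩ := D.F.perm σ
  exact ⟨m, hm, mem_centralizer_iff.2 fun x hx => (B.fix m hm σ h h4 h5 x hx).eq.symm, h⟩

/-- A configuration for the quotient. -/
theorem Base.exists_conf (H : Hyp z Q) : ∃ h : Conf (XQ A), h.J = img A D.F.J ∧ h.x = B.zX :=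
  Sp6Local.exists_conf (B.centHyp H)

/-- An element over the image of the frame centralises it. -/
theorem Base.of_img {g : ↥(cA A)} (hg : (QuotientGroup.mk g : XQ A) ∈ img A D.F.J) :
    (g : G) ∈ centralizer (D.F.J : Set G) := by
  obtain ⟨w, hw, e⟩ := hg
  have h1 : (w : G)⁻¹ * g ∈ A := pmk_eq.1 e
  have h2 : (w : G) ∈ centralizer (D.F.J : Set G) := mem_centralizer_iff.2 fun v hv => (frame_commute hv hw).eq
  have := mul_mem h2 (B.le h1)
  rwa [mul_inv_cancel_left] at this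

theorem Base.normJ_img {m : G} (hm : m ∈ normalizer (D.F.J : Set G)) (hmA : m ∈ cA A) :
    (QuotientGroup.mk ⟨m, hmA⟩ : XQ A) ∈ normalizer (img A D.F.J : Set (XQ A)) := by
  refine mem_normalizer_fintype ?_
  rintro _ ⟨w, hw, rfl⟩
  refine ⟨⟨m, hmA⟩ * w * (⟨m, hmA⟩ : ↥(cA A))⁻¹, (mem_normalizer_iff.1 hm w).1 hw, ?_⟩
  simp

variable {h : Conf (XQ A)} (hJ : h.J = img A D.F.J) (hx : h.x = B.zX)
include hJ

theorem Base.mem_N {m : G} (hm : m ∈ normalizer (D.F.J : Set G)) (hmA : m ∈ cA A) :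
    (QuotientGroup.mk ⟨m, hmA⟩ : XQ A) ∈ h.N := by
  rw [h.N_eq, hJ]; exact B.normJ_img hm hmA

theorem Base.exists_vec {w : G} (hw : w ∈ D.F.J) :
    ∃ v : Sym9ThreeLocal.A, h.j v = QuotientGroup.mk ⟨w, B.J_cA hw⟩ := by
  obtain ⟨v, hv⟩ : (QuotientGroup.mk ⟨w, B.J_cA hw⟩ : XQ A) ∈ h.J := hJ ▸ ⟨⟨w, B.J_cA hw⟩, hw, rfl⟩
  exact ⟨v, hv⟩

include hx

/-- An element inverting the image of the frame lifts to one inverting the frame modulo `A`. -/
theorem Base.lift_inv (H : Hyp z Q) {n : XQ A} (hn : n ∈ h.N)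
    (hinv : ∀ v, n * h.j v * n⁻¹ = h.j v⁻¹) :
    ∃ g : ↥(cA A), QuotientGroup.mk g = n ∧ (g : G) ∈ normalizer (D.F.J : Set G) ∧
      ∃ σ : Equiv.Perm (Fin 6), ∀ a b, (g : G) * D.F.j a b * (g : G)⁻¹ = D.F.j (σ b) (σ a) := by
  obtain ⟨g, rfl⟩ := QuotientGroup.mk_surjective n
  have hJinv : ∀ u ∈ h.J, (QuotientGroup.mk g : XQ A) * u * (QuotientGroup.mk g : XQ A)⁻¹ = u⁻¹ := by
    rintro _ ⟨v, rfl⟩; rw [hinv, map_inv]
  have hgz : (g : G) * z * (g : G)⁻¹ = z⁻¹ := by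
    refine B.coset H (Or.inr rfl) ?_
    have h1 : (QuotientGroup.mk (g * ⟨z, B.z_cA⟩ * g⁻¹) : XQ A) = QuotientGroup.mk (⟨z, B.z_cA⟩ : ↥(cA A))⁻¹ := by
      rw [QuotientGroup.mk_mul, QuotientGroup.mk_mul, QuotientGroup.mk_inv, QuotientGroup.mk_inv]
      exact hJinv _ (hJ ▸ ⟨⟨z, B.z_cA⟩, B.zJ, rfl⟩)
    exact pmk_eq.1 h1.symm
  -- lifts of permutations commute with the inversion modulo the frame
  have hcomm : ∀ m (hmA : m ∈ cA A), m ∈ normalizer (D.F.J : Set G) →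
      (g : G) * m * (g : G)⁻¹ * m⁻¹ ∈ centralizer (D.F.J : Set G) := by
    intro m hmA hm
    refine B.of_img (g := g * ⟨m, hmA⟩ * g⁻¹ * (⟨m, hmA⟩ : ↥(cA A))⁻¹) ?_
    rw [← hJ]
    refine h.cent_J fun v => ?_
    set N : XQ A := QuotientGroup.mk g
    set M : XQ A := QuotientGroup.mk ⟨m, hmA⟩
    have hMJ : ∀ u ∈ h.J, M * u * M⁻¹ ∈ h.J := fun u hu => by
      rw [hJ] at hu ⊢; exact (mem_normalizer_iff.1 (B.normJ_img hm hmA) u).1 hu
    have hMJ' : ∀ u ∈ h.J, M⁻¹ * u * M ∈ h.J := fun u hu => by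
      rw [hJ] at hu ⊢
      refine (mem_normalizer_iff.1 (B.normJ_img hm hmA) _).2 ?_
      rwa [show M * (M⁻¹ * u * M) * M⁻¹ = u by group]
    have e : N * M * N⁻¹ * M⁻¹ * h.j v * (N * M * N⁻¹ * M⁻¹)⁻¹ = h.j v := by
      have h1 : N⁻¹ * (M⁻¹ * h.j v * M) * N = (M⁻¹ * h.j v * M)⁻¹ := by
        have := hJinv _ (inv_mem (hMJ' _ (h.j_mem v)))
        rw [inv_inv] at this
        conv_lhs => rw [← this]
        group
      calc N * M * N⁻¹ * M⁻¹ * h.j v * (N * M * N⁻¹ * M⁻¹)⁻¹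
          = N * (M * (N⁻¹ * (M⁻¹ * h.j v * M) * N) * M⁻¹) * N⁻¹ := by group
        _ = N * (h.j v)⁻¹ * N⁻¹ := by rw [h1]; group
        _ = h.j v := by rw [hJinv _ (inv_mem (h.j_mem v)), inv_inv]
    simp only [QuotientGroup.mk_mul, QuotientGroup.mk_inv]
    exact mul_inv_eq_iff_eq_mul.1 e
  have hga : (g : G) * ra D * (g : G)⁻¹ = ra D := by
    rw [← mem_centralizer_iff.1 g.2 _ B.mem, mul_inv_cancel_right]
  have htri : ∀ σ : Equiv.Perm (Fin 6), σ 4 = 4 → σ 5 = 5 →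
      (g : G) * (D.F.j (σ 0) (σ 1) * D.F.j (σ 2) (σ 1)) * (g : G)⁻¹ ∈ D.F.J := by
    intro σ h4 h5
    obtain ⟨m, hm, hmA, hσ⟩ := B.lift σ h4 h5
    set c := (g : G) * m * (g : G)⁻¹ * m⁻¹
    have hc : c ∈ centralizer (D.F.J : Set G) := hcomm m hmA hm
    have e : D.F.j (σ 0) (σ 1) * D.F.j (σ 2) (σ 1) = m * z * m⁻¹ := by
      rw [← hσ, ← hσ, conj_mul, ← D.F.hz]
    have hmz : m * z⁻¹ * m⁻¹ ∈ D.F.J := (mem_normalizer_iff.1 hm _).1 (inv_mem B.zJ)
    rw [e, show (g : G) * (m * z * m⁻¹) * (g : G)⁻¹ = c * (m * ((g : G) * z * (g : G)⁻¹) * m⁻¹) * c⁻¹ by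
      simp only [c]; group, hgz, ← mem_centralizer_iff.1 hc _ hmz, mul_inv_cancel_right]
    exact hmz
  have hnJ : (g : G) ∈ normalizer (D.F.J : Set G) := by
    refine mem_normalizer_fintype fun w hw => ?_
    have hle : D.F.J ≤ D.F.J.comap (MulAut.conj (g : G)).toMonoidHom := by
      conv_lhs => rw [D.F.span]
      rw [closure_le]
      rintro _ ⟨⟨a, b⟩, rfl⟩
      let P0 : V6 := vd 0 1 + vd 2 1
      let P1 : V6 := vd 0 1 + vd 3 1
      let P2 : V6 := vd 0 3 + vd 2 3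
      have key : ∀ a b : Fin 6, wsum (vd a b) = 0 ∧ ∃ i k l m : Fin 3,
          wsum (i.val • P0 + k.val • P1 + l.val • P2 + m.val • vd 4 5) = 0 ∧
          Same (vd a b) (i.val • P0 + k.val • P1 + l.val • P2 + m.val • vd 4 5) := by decide +kernel
      obtain ⟨h1, i, k, l, m, h2, h3⟩ := key a b
      show (g : G) * D.F.j a b * (g : G)⁻¹ ∈ D.F.J
      rw [← el_vd, (el_eq_iff D.F h1 h2).2 h3, ← el_mul, ← el_mul, ← el_mul, ← el_pow, ← el_pow, ← el_pow,
        ← el_pow, ← el_mul, ← el_mul, ← el_mul]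
      simp only [el_vd, ← conj_mul, ← conj_pow]
      have t0 := htri 1 rfl rfl
      have t1 := htri (Equiv.swap 2 3) (by decide) (by decide)
      have t2 := htri (Equiv.swap 1 3) (by decide) (by decide)
      simp only [Equiv.Perm.one_apply, show Equiv.swap (2 : Fin 6) 3 0 = 0 by decide,
        show Equiv.swap (2 : Fin 6) 3 1 = 1 by decide, show Equiv.swap (2 : Fin 6) 3 2 = 3 by decide,
        show Equiv.swap (1 : Fin 6) 3 0 = 0 by decide, show Equiv.swap (1 : Fin 6) 3 1 = 3 by decide,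
        show Equiv.swap (1 : Fin 6) 3 2 = 2 by decide, ← conj_mul] at t0 t1 t2
      exact mul_mem (mul_mem (mul_mem (pow_mem t0 _) (pow_mem t1 _)) (pow_mem t2 _))
        (pow_mem (by rw [show D.F.j 4 5 = ra D from rfl, hga]; exact j_mem D.F 4 5) _)
    exact hle hw
  refine ⟨g, rfl, hnJ, ?_⟩
  obtain ⟨σ, hσ⟩ := D.mono _ hnJ
  rcases hσ with hσ | hσ
  · exfalso
    have key : ∀ σ : Equiv.Perm (Fin 6), wsum (vd (σ 0) (σ 1) + vd (σ 2) (σ 1)) = 0 ∧
        (σ 4 = 4 → σ 5 = 5 → ¬ Same (vd (σ 0) (σ 1) + vd (σ 2) (σ 1)) (-(vd 0 1 + vd 2 1))) := by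
      decide +kernel
    obtain ⟨k1, k2⟩ := key σ
    rw [ra, hσ] at hga
    obtain ⟨e4, e5⟩ := j_inj D.F (by decide) hga.symm
    refine k2 e4.symm e5.symm ((el_eq_iff D.F k1 (by decide +kernel)).1 ?_)
    rw [← el_inv, ← el_mul, ← el_mul, el_vd, el_vd, el_vd, el_vd, ← hσ, ← hσ, conj_mul, ← D.F.hz, hgz]
  · exact ⟨σ, hσ⟩

/-- The kind is four, or eight with the frame self-centralising. -/
theorem Base.kind_cases (H : Hyp z Q)
    (hA : centralizer (D.F.J : Set G) = D.F.J ∨ ∃ W : Wide D.F, W.e 4 ∈ A) :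
    h.k = .four ∨ (h.k = .eight ∧ centralizer (D.F.J : Set G) = D.F.J) := by
  -- the point `y` is not a power of `z` modulo `A`
  obtain ⟨m, hm, hmA, hσ⟩ := B.lift (Equiv.swap 2 3) (by decide) (by decide)
  have hyz : ∀ z', (z' = z ∨ z' = z⁻¹) → z'⁻¹ * (m * z * m⁻¹) ∉ A := by
    intro z' hz' hmem
    have e := B.coset H hz' hmem
    have e1 : m * z * m⁻¹ = el D.F (vd 0 1 + vd 3 1) := by
      rw [← el_mul, el_vd, el_vd]
      conv_lhs => rw [D.F.hz, ← conj_mul, hσ, hσ]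
      rfl
    have hz : z = el D.F (vd 0 1 + vd 2 1) := by rw [← el_mul, el_vd, el_vd]; exact D.F.hz
    rcases hz' with r | r <;> rw [r, e1] at e
    · exact absurd ((el_eq_iff D.F (by decide +kernel) (by decide +kernel)).1 (e.trans hz)) (by decide +kernel)
    · exact absurd ((el_eq_iff D.F (by decide +kernel) (by decide +kernel)).1
        (e.trans ((congrArg (·⁻¹) hz).trans (el_inv D.F _)))) (by decide +kernel)
  obtain ⟨w, hwact, -⟩ := h.exists_act (B.mem_N hJ hm hmA)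
  have hw : (QuotientGroup.mk (⟨m, hmA⟩ * ⟨z, B.z_cA⟩ * (⟨m, hmA⟩ : ↥(cA A))⁻¹) : XQ A) = h.j (act w xA) := by
    rw [← hwact xA]
    show _ = _ * h.x * _
    rw [hx, QuotientGroup.mk_mul, QuotientGroup.mk_mul, QuotientGroup.mk_inv]
    rfl
  have hne : act (w : W) xA ≠ xA ∧ act (w : W) xA ≠ xA⁻¹ := by
    constructor <;> intro e <;> rw [e] at hw
    · rw [show h.j xA = h.x from rfl, hx] at hw
      exact hyz z (Or.inl rfl) (pmk_eq.1 hw.symm)
    · rw [map_inv, show h.j xA = h.x from rfl, hx] at hw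
      refine hyz z⁻¹ (Or.inr rfl) ((pmk_eq (g := (⟨z, B.z_cA⟩ : ↥(cA A))⁻¹)).1 (Eq.trans ?_ hw.symm))
      rw [QuotientGroup.mk_inv]; rfl
  rcases hk : h.k with _ | _ | _ | _
  · have key : ∀ w : W, inK .one w → act w xA = xA := by decide +kernel
    exact absurd (key w (hk ▸ w.2)) hne.1
  · have key : ∀ w : W, inK .two w → act w xA = xA ∨ act w xA = xA⁻¹ := by decide +kernel
    rcases key w (hk ▸ w.2) with e | e
    · exact absurd e hne.1
    · exact absurd e hne.2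
  · exact Or.inl rfl
  · refine Or.inr ⟨rfl, hA.resolve_right ?_⟩
    rintro ⟨W, hW⟩
    have hwi : inK h.k wi := by rw [hk]; trivial
    obtain ⟨g, -, hg, σ, hσ'⟩ := B.lift_inv hJ hx H (h.q_mem_N ⟨wi, hwi⟩) fun v => by
      rw [h.conj_j, wi_inv]
    obtain ⟨τ, hτ⟩ := W.mono g hg
    have h4 : (g : G) * W.e 4 * (g : G)⁻¹ = W.e 4 := by
      rw [← mem_centralizer_iff.1 g.2 _ hW, mul_inv_cancel_right]
    have hcard : ¬ W.e 4 ∈ D.F.J := fun h4J => by
      have hall : centralizer (D.F.J : Set G) ≤ D.F.J := by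
        rw [W.span, closure_le]
        rintro _ ⟨b, rfl⟩
        have h := mul_mem (j_mem D.F b 4) h4J
        rwa [W.diff, inv_mul_cancel_right] at h
      have := Subgroup.card_le_of_le hall
      rw [W.card, D.F.card] at this
      omega
    rcases hτ with hτ | hτ
    · -- then the element would act as a permutation
      have hστ : ∀ a b : Fin 6, a ≠ b → σ b = τ a := fun a b hab => by
        have e := hσ' a b
        rw [W.diff, ← conj_mul, hτ, ← conj_inv, hτ, ← W.diff] at e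
        exact (j_inj D.F (fun e => hab (τ.injective e)) e).1.symm
      exact absurd (σ.injective ((hστ 0 1 (by decide)).trans (hστ 0 2 (by decide)).symm)) (by decide)
    · rw [hτ] at h4
      refine hcard ?_
      have hj := j_mem D.F 4 (τ 4)
      have h2 : D.F.j 4 (τ 4) = W.e 4 * W.e 4 := by rw [W.diff, h4]
      rw [h2] at hj
      have := mul_mem hj hj
      rwa [show W.e 4 * W.e 4 * (W.e 4 * W.e 4) = W.e 4 ^ 3 * W.e 4 by
        simp only [pow_succ, pow_zero, one_mul, mul_assoc], W.cube, one_mul] at this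

end Cfsg.Agent.U62Three.K
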