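import Cfsg.Agent.U62Three.K.Z.Transport
import Cfsg.Agent.U62Three.D.Coset
import Cfsg.Agent.Coprime.Generation

/-!
# Elements of order prime to three centralising a root, the quaternion group at a point and `t`

They lie in the quaternion group at the fourth point: the centraliser has a normal complement to an abelian Sylow
subgroup, generated by the centralisers of the elements of a subgroup of the frame.
-/

set_option autoImplicit false
set_option linter.unusedSectionVars false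

open Subgroup Pointwise

namespace Cfsg.Agent.U62Three.K

universe u

variable {G : Type u} [Group G] [Finite G] {z : G} {Q : Subgroup G} (D : Facts z Q)

/-- The centraliser of the frame is abelian. -/
theorem cJ_comm {x y : G} (hx : x ∈ centralizer (D.F.J : Set G)) (hy : y ∈ centralizer (D.F.J : Set G)) :
    Commute x y := by
  by_cases hw : 3 ^ 7 ∣ Nat.card ↥(centralizer ({z} : Set G))
  · obtain ⟨W⟩ := D.wide hw
    exact U62Three.D.cj_comm D W hx hy
  · rw [D.narrow hw] at hx hy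
    exact frame_commute hx hy

/-- The conjugates of `z` centralising the frame lie in it. -/
theorem cJ_conj (H : Hyp z Q) {g : G} (hg : g * z * g⁻¹ ∈ centralizer (D.F.J : Set G)) :
    g * z * g⁻¹ ∈ D.F.J := by
  by_cases hw : 3 ^ 7 ∣ Nat.card ↥(centralizer ({z} : Set G))
  · obtain ⟨W⟩ := D.wide hw
    exact U62Three.D.conj_in_J H D W hg
  · rwa [D.narrow hw] at hg

/-- Elements centralising the frame have odd order. -/
theorem cJ_pow {c : G} (hc : c ∈ centralizer (D.F.J : Set G)) : ∃ k : ℕ, c ^ (3 ^ k) = 1 := by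
  obtain ⟨k, hk⟩ := D.centJ ⟨c, hc⟩
  exact ⟨k, congrArg Subtype.val hk⟩

/-- A conjugate of `z` centralising `z` and the first block is a power of `z`. -/
theorem cent_block_conj {g : G} (hwz : Commute (g * z * g⁻¹) z)
    (hwQ : ∀ x ∈ D.Qi 0, Commute (g * z * g⁻¹) x) : g * z * g⁻¹ ∈ zpowers z := by
  set w := g * z * g⁻¹ with hw
  by_contra hne
  obtain ⟨c, hc, hcw⟩ := D.moved g ⟨mem_centralizer_singleton_iff.2 hwz.eq, hne⟩
  obtain ⟨k, hk⟩ := D.perm c hc 0
  have hyJ : ∀ x ∈ D.Qi k, x ∈ D.F.J := by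
    intro x hx
    refine D.centQ x (D.le k hx) ?_
    have hx0 : c⁻¹ * x * c ∈ D.Qi 0 := (hk _).2 (by rwa [show c * (c⁻¹ * x * c) * c⁻¹ = x by group])
    have h1 := (hwQ _ hx0).map (MulAut.conj c).toMonoidHom
    simp only [MulEquiv.coe_toMonoidHom, MulAut.conj_apply] at h1
    rw [show c * (c⁻¹ * x * c) * c⁻¹ = x by group] at h1
    rcases hcw with e | e
    · rw [e] at h1; exact h1.symm
    · rw [e] at h1; simpa using h1.symm.inv_right
  obtain ⟨x, hx, hxz⟩ := block_ne D k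
  exact hxz (D.centre k x hx fun y hy => frame_commute (hyJ x hx) (hyJ y hy))

/-- An element centralising `z`, the first quaternion group and a root of the first triple centralises the first
block. -/
theorem cent_block (H : Hyp z Q) {x : G} (hxz : Commute x z) (hxR : ∀ r ∈ D.R 0, Commute x r)
    (hxj : Commute x (D.F.j 0 1)) : ∀ w ∈ D.Qi 0, Commute x w := by
  intro w hw
  by_cases hwz : w ∈ zpowers z
  · obtain ⟨m, rfl⟩ := mem_zpowers_iff.1 hwz
    exact hxz.zpow_right m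
  obtain ⟨r, hr, hm⟩ := block_trans D H D.j_zero.1 (j_not_z D H 0 1 (by decide)) hw hwz
  obtain ⟨m, hm⟩ := mem_zpowers_iff.1 hm
  have h1 : Commute x (r * D.F.j 0 1 * r⁻¹) := ((hxR r hr).mul_right hxj).mul_right (hxR r hr).inv_right
  have h2 : w = r * D.F.j 0 1 * r⁻¹ * (z ^ m)⁻¹ := by rw [hm]; group
  rw [h2]
  exact h1.mul_right (hxz.zpow_right m).inv_right

/-- The root `e₄ - e₅` lies in the second block. -/
theorem a_Qi1 : D.F.j 4 5 ∈ D.Qi 1 := D.j_one.2

/-- The roots off `z` commute with the first quaternion group. -/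
theorem root_zero_comm {k l : Fin 4} (hk : k ≠ 0) (hl : l ≠ 0) {r : G} (hr : r ∈ D.R 0) :
    Commute r (D.F.j (up k) (up l)) := by
  refine D.R_cent 0 1 (by decide) r hr _ ?_
  have h35 : D.F.j 3 5 ∈ D.Qi 1 := D.F.cocycle 3 4 5 ▸ mul_mem D.j_one.1 D.j_one.2
  have h34 := D.j_one.1
  have h45 := D.j_one.2
  have hs : ∀ a b, D.F.j a b ∈ D.Qi 1 → D.F.j b a ∈ D.Qi 1 := fun a b h => j_symm D.F a b ▸ inv_mem h
  have h0 : ∀ a, D.F.j a a ∈ D.Qi 1 := fun a => by rw [j_self]; exact one_mem _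
  fin_cases k <;> fin_cases l
  all_goals first | exact absurd rfl hk | exact absurd rfl hl | exact h0 _ | exact h34 | exact h45 | exact h35 |
    exact hs _ _ h34 | exact hs _ _ h45 | exact hs _ _ h35

/-- An element of the centraliser of `z`, the root and `t` is a member of the first quaternion group times an
element centralising the frame. -/
theorem za_form (H : Hyp z Q) {g : G} (hgz : Commute g z) (hga : Commute g (D.F.j 4 5))
    (hgt : Commute g (D.t 0)) :
    ∃ r ∈ D.R 0, ∃ c ∈ centralizer (D.F.J : Set G), Commute c (D.t 0) ∧ g = r * c := by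
  have hgz' : g ∈ centralizer ({z} : Set G) := mem_centralizer_singleton_iff.2 hgz.eq
  have hfix := fix_blocks D hgz' hgt
  have hnot : g * D.F.j 0 1 * g⁻¹ ∉ zpowers z := fun h => j_not_z D H 0 1 (by decide) (by
    obtain ⟨m, hm⟩ := mem_zpowers_iff.1 h
    have e : D.F.j 0 1 = g⁻¹ * z ^ m * g := by rw [hm]; group
    rw [e, mul_assoc, ← (hgz.zpow_right m).eq, inv_mul_cancel_left]
    exact zpow_mem (mem_zpowers z) m)
  obtain ⟨r, hr, hr'⟩ := block_trans D H ((hfix 0 _).1 D.j_zero.1) hnot D.j_zero.1 (j_not_z D H 0 1 (by decide))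
  set n := r * g with hn
  have hrt : Commute r (D.t 0) := tR D hr
  have hrz : Commute r z := mem_centralizer_singleton_iff.1 (D.R_le 0 hr)
  have hnt : Commute n (D.t 0) := hrt.mul_left hgt
  have hnz : n ∈ centralizer ({z} : Set G) := mem_centralizer_singleton_iff.2 (hrz.mul_left hgz).eq
  have hna : Commute n (D.F.j 4 5) := (D.R_cent 0 1 (by decide) r hr _ D.j_one.2).mul_left hga
  have h34 : D.F.j 3 4 = z⁻¹ * D.F.j 4 5 := by
    refine eq_inv_mul_iff_mul_eq.2 ?_
    conv_lhs => enter [1]; rw [D.F.hz]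
    rw [← el_vd, ← el_vd D.F 2 1, ← el_vd D.F 3 4, ← el_vd D.F 4 5, el_mul, el_mul]
    exact (el_eq_iff D.F (by decide +kernel) (by decide +kernel)).2 (by decide +kernel)
  have hn34 : Commute n (D.F.j 3 4) := by
    have hc : Commute n z := hrz.mul_left hgz
    rw [h34]
    exact hc.inv_right.mul_right hna
  have hnJ : n ∈ normalizer (D.F.J : Set G) := by
    refine normJ_of_lines D H hnz (fix_blocks D hnz hnt) ?_ ?_
    · have := mul_mem (mem_sup_right (S := zpowers z) (mem_zpowers (D.F.j 0 1)))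
        (mem_sup_left (T := zpowers (D.F.j 0 1)) hr')
      rwa [mul_inv_cancel_left, show r * (g * D.F.j 0 1 * g⁻¹) * r⁻¹ = n * D.F.j 0 1 * n⁻¹ by
        rw [hn]; group] at this
    · rw [hn34.eq, mul_inv_cancel_right]
      exact mem_sup_right (mem_zpowers _)
  obtain ⟨σ, hσ⟩ := D.mono n hnJ
  have e45 : n * D.F.j 4 5 * n⁻¹ = D.F.j 4 5 := by rw [hna.eq, mul_inv_cancel_right]
  have e34 : n * D.F.j 3 4 * n⁻¹ = D.F.j 3 4 := by rw [hn34.eq, mul_inv_cancel_right]
  rcases hσ with hσ | hσ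
  · rw [hσ] at e45 e34
    obtain ⟨s4, s5⟩ := j_inj D.F (by decide) e45.symm
    obtain ⟨s3, -⟩ := j_inj D.F (by decide) e34.symm
    have hcomm : ∀ a, σ (Equiv.swap 0 1 a) = Equiv.swap 0 1 (σ a) := by
      intro a
      obtain ⟨b, hb⟩ : ∃ b : Fin 6, a ≠ b := ⟨if a = 0 then 1 else 0, by fin_cases a <;> decide⟩
      have h : n * (D.t 0 * D.F.j a b * (D.t 0)⁻¹) * n⁻¹ = D.t 0 * (n * D.F.j a b * n⁻¹) * (D.t 0)⁻¹ := by
        calc _ = n * D.t 0 * D.F.j a b * (n * D.t 0)⁻¹ := by group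
          _ = D.t 0 * n * D.F.j a b * (D.t 0 * n)⁻¹ := by rw [hnt.eq]
          _ = _ := by group
      rw [D.t_zero, hσ, hσ, D.t_zero] at h
      exact (j_inj D.F (fun e => hb ((Equiv.swap (0 : Fin 6) 1).injective (σ.injective e))) h).1
    have hzfix : Same (vd (σ 0) (σ 1) + vd (σ 2) (σ 1)) (vd 0 1 + vd 2 1) := by
      refine (el_eq_iff D.F ((by decide +kernel : ∀ a b c : Fin 6, wsum (vd a b + vd c b) = 0) _ _ _)
        (by decide +kernel)).1 ?_
      rw [← el_mul, el_vd, el_vd, ← hσ, ← hσ, conj_mul, ← el_mul, el_vd, el_vd, ← D.F.hz,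
        (mem_centralizer_singleton_iff.1 hnz : n * z = z * n), mul_inv_cancel_right]
    have key : ∀ σ : Equiv.Perm (Fin 6), σ 3 = 3 → σ 4 = 4 → σ 5 = 5 →
        (∀ a, σ (Equiv.swap 0 1 a) = Equiv.swap 0 1 (σ a)) →
        Same (vd (σ 0) (σ 1) + vd (σ 2) (σ 1)) (vd 0 1 + vd 2 1) →
        σ = 1 ∨ σ = Equiv.swap 0 1 := by decide +kernel
    have hle : ∀ m : G, (∀ a b, m * D.F.j a b * m⁻¹ = D.F.j a b) → m ∈ centralizer (D.F.J : Set G) := by
      intro m hm
      refine mem_centralizer_iff.2 fun w hw => ?_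
      have : D.F.J ≤ centralizer ({m} : Set G) := by
        rw [D.F.span, closure_le]
        rintro _ ⟨⟨a, b⟩, rfl⟩
        exact mem_centralizer_singleton_iff.2 (mul_inv_eq_iff_eq_mul.1 (hm a b)).symm
      exact mem_centralizer_singleton_iff.1 (this hw)
    rcases key σ s3.symm s4.symm s5.symm hcomm hzfix with rfl | rfl
    · exact ⟨r⁻¹, inv_mem hr, n, hle n fun a b => by rw [hσ]; rfl, hnt, by rw [hn]; group⟩
    · refine ⟨r⁻¹ * D.t 0, mul_mem (inv_mem hr) (D.t_mem 0), D.t 0 * n, hle _ fun a b => ?_,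
        (Commute.refl _).mul_left hnt, ?_⟩
      · rw [show D.t 0 * n * D.F.j a b * (D.t 0 * n)⁻¹ = D.t 0 * (n * D.F.j a b * n⁻¹) * (D.t 0)⁻¹ by group,
          hσ, D.t_zero, Equiv.swap_apply_self, Equiv.swap_apply_self]
      · calc g = r⁻¹ * (D.t 0 * D.t 0) * n := by rw [t_sq D 0, hn]; group
          _ = _ := by group
  · exfalso
    rw [hσ] at e45 e34
    obtain ⟨-, s4⟩ := j_inj D.F (by decide) e45.symm
    obtain ⟨s3', -⟩ := j_inj D.F (by decide) e34.symm
    -- `σ 5 = 4`, `σ 4 = 5` and `σ 4 = 3`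
    exact absurd (s4.trans (s3'.symm)) (by decide)

/-- If a member of the first quaternion group times an element of odd order centralising the frame centralises the
group, it is central and the element centralises the group. -/
theorem R0_auto {r c : G} (hr : r ∈ D.R 0) (hc : c ∈ centralizer (D.F.J : Set G))
    (h : ∀ s ∈ D.R 0, Commute (r * c) s) : (r = 1 ∨ r = D.t 0) ∧ ∀ s ∈ D.R 0, Commute c s := by
  have hcs : ∀ s ∈ D.R 0, c * s * c⁻¹ = r⁻¹ * s * r := fun s hs => by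
    calc c * s * c⁻¹ = r⁻¹ * (r * c * s) * c⁻¹ := by group
      _ = r⁻¹ * (s * (r * c)) * c⁻¹ := by rw [(h s hs).eq]
      _ = _ := by group
  have hrr : ∀ s ∈ D.R 0, Commute (r * r) s := fun s hs => by
    rcases (cover_R D 0).1.sq r hr with e | e <;> rw [e]
    · exact Commute.one_left s
    · exact ((cover_R D 0).1.central s hs).symm
  have hcc : ∀ s ∈ D.R 0, Commute (c * c) s := fun s hs => by
    have h1 : r⁻¹ * s * r ∈ D.R 0 := mul_mem (mul_mem (inv_mem hr) hs) hr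
    refine mul_inv_eq_iff_eq_mul.1 ?_
    calc c * c * s * (c * c)⁻¹ = c * (c * s * c⁻¹) * c⁻¹ := by group
      _ = r⁻¹ * (r⁻¹ * s * r) * r := by rw [hcs s hs, hcs _ h1]
      _ = (r * r)⁻¹ * (s * (r * r)) := by group
      _ = s := by rw [← (hrr s hs).eq, inv_mul_cancel_left]
  obtain ⟨k, hk⟩ := cJ_pow D hc
  obtain ⟨m, hm⟩ : ∃ m : ℕ, 3 ^ k + 1 = m + m := (Odd.pow (n := k) (by decide : Odd 3)).add_one
  have hc' : c = (c * c) ^ m := by
    rw [← pow_two, ← pow_mul, two_mul, ← hm, pow_succ, hk, one_mul]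
  have hcs' : ∀ s ∈ D.R 0, Commute c s := fun s hs => hc' ▸ (hcc s hs).pow_left m
  refine ⟨(cover_R D 0).1.centre r hr fun s hs => ?_, hcs'⟩
  have := (h s hs).mul_left (hcs' s hs).inv_left
  rwa [mul_inv_cancel_right] at this

/-- A point commutes with `t`. -/
theorem pt_comm_t (k : Fin 4) : Commute (D.t 0) (D.pt k) := by
  refine mul_inv_eq_iff_eq_mul.1 ?_
  show D.t 0 * (D.F.j 0 (up k) * D.F.j 1 (up k)) * (D.t 0)⁻¹ = D.F.j 0 (up k) * D.F.j 1 (up k)
  rw [← conj_mul, D.t_zero, D.t_zero, Equiv.swap_apply_left, Equiv.swap_apply_right,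
    Equiv.swap_apply_of_ne_of_ne ((by decide : ∀ k : Fin 4, up k ≠ 0) k) ((by decide : ∀ k : Fin 4, up k ≠ 1) k)]
  exact frame_commute (j_mem D.F _ _) (j_mem D.F _ _)

/-- The quaternion group at `z` is the first one. -/
theorem Rq_zero (H : Hyp z Q) : Rq D 0 = D.R 0 :=
  cj_of_mem (norm_R0 D H ⟨(mv_mem D 0).2, mem_centralizer_singleton_iff.2 (mul_inv_eq_iff_eq_mul.1 (by
    rw [mv_z, pt_zero]))⟩)

/-- The quaternion group at a point meets the centraliser of another point in its centre. -/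
theorem free_all (H : Hyp z Q) {i k : Fin 4} (hik : i ≠ k) {r : G} (hr : r ∈ Rq D i)
    (h : Commute r (D.pt k)) : r = 1 ∨ r = D.t 0 := by
  rw [Rq, mem_cj] at hr
  set n := mv D i
  have hnt : Commute n (D.t 0) := mem_centralizer_singleton_iff.1 (mv_mem D i).2
  have h1 : Commute (n⁻¹ * r * n) (D.pt (Equiv.swap 0 i k)) := by
    have e : n⁻¹ * D.pt k * n = D.pt (Equiv.swap 0 i k) := by
      have := mv_pt D i (Equiv.swap 0 i k)
      rw [Equiv.swap_apply_self] at this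
      rw [← this]; simp only [n]; group
    have := h.map (MulAut.conj n⁻¹).toMonoidHom
    simp only [MulEquiv.coe_toMonoidHom, MulAut.conj_apply, inv_inv] at this
    rwa [e] at this
  set k' := Equiv.swap 0 i k with hk'
  have hk0 : k' ≠ 0 := fun e => hik (by
    have := congrArg (Equiv.swap 0 i) e
    rw [hk', Equiv.swap_apply_self, Equiv.swap_apply_left] at this
    exact this.symm)
  obtain ⟨m, hm, hmj⟩ := lift_perm D (Equiv.swap 3 (up k'))
    ((by decide +kernel : ∀ k : Fin 4, k ≠ 0 → ∀ a : Fin 6,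
      Equiv.swap 3 (up k) (Equiv.swap 0 1 a) = Equiv.swap 0 1 (Equiv.swap 3 (up k) a)) k' hk0)
  have key : ∀ k : Fin 4, k ≠ 0 → Equiv.swap (3 : Fin 6) (up k) 0 = 0 ∧ Equiv.swap (3 : Fin 6) (up k) 1 = 1 ∧
      Equiv.swap (3 : Fin 6) (up k) 2 = 2 ∧ Equiv.swap (3 : Fin 6) (up k) 3 = up k := by decide +kernel
  obtain ⟨e0, e1, e2, e3⟩ := key k' hk0
  have hmz : m * z * m⁻¹ = z := by
    conv_lhs => rw [D.F.hz, ← conj_mul, hmj, hmj, e0, e1, e2]
    exact D.F.hz.symm
  have hmy : m * (D.F.j 0 3 * D.F.j 1 3) * m⁻¹ = D.pt k' := by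
    rw [← conj_mul, hmj, hmj, e0, e1, e3]; rfl
  have hmn : m ∈ normalizer (D.R 0 : Set G) :=
    norm_R0 D H ⟨hm.2, mem_centralizer_singleton_iff.2 (mul_inv_eq_iff_eq_mul.1 hmz)⟩
  have hr2 : m⁻¹ * (n⁻¹ * r * n) * m ∈ D.R 0 := by
    have := (mem_normalizer_iff.1 (inv_mem hmn) _).1 hr
    rwa [inv_inv] at this
  have h2 : Commute (m⁻¹ * (n⁻¹ * r * n) * m) (D.F.j 0 3 * D.F.j 1 3) := by
    have := h1.map (MulAut.conj m⁻¹).toMonoidHom
    simp only [MulEquiv.coe_toMonoidHom, MulAut.conj_apply, inv_inv] at this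
    rwa [← hmy, show m⁻¹ * (m * (D.F.j 0 3 * D.F.j 1 3) * m⁻¹) * m = D.F.j 0 3 * D.F.j 1 3 by group] at this
  have hmt : Commute m (D.t 0) := mem_centralizer_singleton_iff.1 hm.2
  rcases free_zero D H hr2 h2 with e | e
  · left
    calc r = n * m * (m⁻¹ * (n⁻¹ * r * n) * m) * m⁻¹ * n⁻¹ := by group
      _ = 1 := by rw [e]; group
  · right
    calc r = n * m * (m⁻¹ * (n⁻¹ * r * n) * m) * m⁻¹ * n⁻¹ := by group
      _ = n * (m * D.t 0 * m⁻¹) * n⁻¹ := by rw [e]; group
      _ = D.t 0 := by rw [hmt.eq, mul_inv_cancel_right, hnt.eq, mul_inv_cancel_right]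

/-- The centraliser of `t`, the root and the first quaternion group. -/
abbrev YY : Subgroup G :=
  centralizer ({D.t 0} : Set G) ⊓ centralizer ({D.F.j 4 5} : Set G) ⊓ centralizer (D.R 0 : Set G)

/-- Its part centralising the frame. -/
abbrev WW : Subgroup G := centralizer (D.F.J : Set G) ⊓ YY D

theorem zYY (H : Hyp z Q) : z ∈ WW D :=
  ⟨mem_centralizer_iff.2 fun _ hw => (frame_commute hw (zpow_z_J D (mem_zpowers z))).eq,
    ⟨mem_centralizer_singleton_iff.2 (mem_centralizer_singleton_iff.1 (t_cent D 0)).symm,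
      mem_centralizer_singleton_iff.2 (z_comm_Q H (D.le 1 D.j_one.2)).eq⟩,
    mem_centralizer_iff.2 fun _ hr => mem_centralizer_singleton_iff.1 (D.R_le 0 hr)⟩

theorem yz_mem (H : Hyp z Q) {y : G} (hy : y ∈ YY D) (hyz : Commute y z) : y ∈ WW D ∨ y * D.t 0 ∈ WW D := by
  obtain ⟨⟨hyt, hya⟩, hyR⟩ := hy
  obtain ⟨r, hr, c, hc, hct, rfl⟩ := za_form D H hyz (mem_centralizer_singleton_iff.1 hya)
    (mem_centralizer_singleton_iff.1 hyt)
  obtain ⟨hr1, hcR⟩ := R0_auto D hr hc fun s hs => (mem_centralizer_iff.1 hyR s hs).symm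
  have hca : c ∈ centralizer ({D.F.j 4 5} : Set G) :=
    mem_centralizer_singleton_iff.2 (mem_centralizer_iff.1 hc _ (j_mem D.F 4 5)).symm
  have hcW : c ∈ WW D := ⟨hc, ⟨mem_centralizer_singleton_iff.2 hct.eq, hca⟩,
    mem_centralizer_iff.2 fun s hs => (hcR s hs).eq.symm⟩
  rcases hr1 with rfl | rfl
  · left; rwa [one_mul]
  · right; rwa [← hct.eq, mul_assoc, t_sq D 0, mul_one]

/-- No element of the group inverts `z`. -/
theorem not_invert (H : Hyp z Q) {n : G} (hn : n ∈ YY D) (hnz : n * z * n⁻¹ = z⁻¹) : False := by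
  obtain ⟨⟨hnt, hna⟩, hnR⟩ := hn
  replace hnt : Commute n (D.t 0) := mem_centralizer_singleton_iff.1 hnt
  replace hna : Commute n (D.F.j 4 5) := mem_centralizer_singleton_iff.1 hna
  have hnz' : n * z⁻¹ * n⁻¹ = z := by rw [← conj_inv, hnz, inv_inv]
  -- the images of the three points other than `z` are points
  have himg : ∀ k : Fin 4, k ≠ 0 → ∃ m : Fin 4, m ≠ 0 ∧ n * D.pt k * n⁻¹ = D.pt m := by
    intro k hk
    set p := n * D.pt k * n⁻¹ with hp
    have hpkJ : D.pt k ∈ D.F.J := mul_mem (j_mem D.F _ _) (j_mem D.F _ _)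
    have hpkz : Commute (D.pt k) z := frame_commute hpkJ (zpow_z_J D (mem_zpowers z))
    have hcn : ∀ {x : G}, Commute (D.pt k) x → Commute p (n * x * n⁻¹) := fun {x} h => by
      have := h.map (MulAut.conj n).toMonoidHom
      simpa only [MulEquiv.coe_toMonoidHom, MulAut.conj_apply] using this
    have hpz : Commute p z := by rw [← hnz']; exact hcn hpkz.inv_right
    have hpa : Commute p (D.F.j 4 5) := by
      have := hcn (frame_commute hpkJ (j_mem D.F 4 5))
      rwa [hna.eq, mul_inv_cancel_right] at this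
    have hpkt : Commute (D.pt k) (D.t 0) := (pt_comm_t D k).symm
    have hpt : Commute p (D.t 0) := by
      have := hcn hpkt
      rwa [hnt.eq, mul_inv_cancel_right] at this
    obtain ⟨r, hr, c, hc, hct, hpc⟩ := za_form D H hpz hpa hpt
    have hpN : D.pt k ∈ normalizer (D.R 0 : Set G) :=
      norm_R0 D H ⟨mem_centralizer_singleton_iff.2 hpkt.eq, mem_centralizer_singleton_iff.2 hpkz.eq⟩
    -- the image acts on the quaternion group as the point does
    have hact : ∀ s ∈ D.R 0, p * s * p⁻¹ = D.pt k * s * (D.pt k)⁻¹ := fun s hs => by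
      have h1 : n⁻¹ * s * n = s := by
        rw [mul_assoc, mem_centralizer_iff.1 hnR s hs, inv_mul_cancel_left]
      have h2 : D.pt k * s * (D.pt k)⁻¹ ∈ D.R 0 := (mem_normalizer_iff.1 hpN s).1 hs
      calc p * s * p⁻¹ = n * (D.pt k * (n⁻¹ * s * n) * (D.pt k)⁻¹) * n⁻¹ := by rw [hp]; group
        _ = _ := by rw [h1, ← mem_centralizer_iff.1 hnR _ h2, mul_inv_cancel_right]
    have hdiff : ∀ s ∈ D.R 0, Commute ((D.pt k)⁻¹ * p) s := fun s hs => by
      refine mul_inv_eq_iff_eq_mul.1 ?_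
      calc (D.pt k)⁻¹ * p * s * ((D.pt k)⁻¹ * p)⁻¹ = (D.pt k)⁻¹ * (p * s * p⁻¹) * D.pt k := by group
        _ = s := by rw [hact s hs]; group
    have hr1 : r = 1 ∨ r = D.t 0 := by
      have hr' : (D.pt k)⁻¹ * r * D.pt k ∈ D.R 0 := by
        have := (mem_normalizer_iff.1 (inv_mem hpN) r).1 hr
        rwa [inv_inv] at this
      have hc' : (D.pt k)⁻¹ * c ∈ centralizer (D.F.J : Set G) :=
        mul_mem (inv_mem (mem_centralizer_iff.2 fun w hw => (frame_commute hw hpkJ).eq)) hc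
      rcases (R0_auto D hr' hc' fun s hs => by
        have := hdiff s hs
        rwa [hpc, show (D.pt k)⁻¹ * (r * c) = (D.pt k)⁻¹ * r * D.pt k * ((D.pt k)⁻¹ * c) by group] at this).1
        with e | e
      · left
        calc r = D.pt k * ((D.pt k)⁻¹ * r * D.pt k) * (D.pt k)⁻¹ := by group
          _ = 1 := by rw [e]; group
      · right
        calc r = D.pt k * ((D.pt k)⁻¹ * r * D.pt k) * (D.pt k)⁻¹ := by group
          _ = D.t 0 := by rw [e, hpkt.eq, mul_inv_cancel_right]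
    have hp3 : p ^ 3 = 1 := by
      rw [hp, conj_pow, pow_succ, pow_two, J_cube hpkJ, mul_one, mul_inv_cancel]
    have hpcJ : p ∈ centralizer (D.F.J : Set G) := by
      rcases hr1 with rfl | rfl
      · rw [hpc, one_mul]; exact hc
      · exfalso
        obtain ⟨e, he⟩ := cJ_pow D hc
        have h1 : p ^ (3 ^ (e + 1)) = 1 := by rw [pow_succ', pow_mul, hp3, one_pow]
        rw [hpc, hct.symm.mul_pow, show (3 : ℕ) ^ (e + 1) = 3 ^ e * 3 from pow_succ _ _, pow_mul c, he,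
          one_pow, mul_one] at h1
        obtain ⟨q, hq⟩ := Odd.mul (Odd.pow (n := e) (by decide : Odd 3)) (by decide : Odd 3)
        rw [hq, pow_succ, pow_mul, pow_two, t_sq D 0, one_pow, one_mul] at h1
        exact t_ne D 0 h1
    have hg : p = n * mv D k * z * (n * mv D k)⁻¹ := by rw [hp, ← mv_z]; group
    have hpJ : p ∈ D.F.J := hg ▸ cJ_conj D H (hg ▸ hpcJ)
    obtain ⟨σ, hσ⟩ := D.points _ (hg ▸ hpJ)
    rw [← hg, ← el_vd, ← el_vd D.F (σ 2), el_mul] at hσ
    -- it is fixed by the transposition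
    have hw : ∀ a b c : Fin 6, wsum (vd a b + vd c b) = 0 := by decide +kernel
    have hfix : Same (vd (σ 0) (σ 1) + vd (σ 2) (σ 1))
        (vd (Equiv.swap 0 1 (σ 0)) (Equiv.swap 0 1 (σ 1)) + vd (Equiv.swap 0 1 (σ 2)) (Equiv.swap 0 1 (σ 1))) := by
      refine (el_eq_iff D.F (hw _ _ _) (hw _ _ _)).1 ?_
      rw [← hσ, ← el_mul, el_vd, el_vd, ← D.t_zero, ← D.t_zero, conj_mul, ← el_vd, ← el_vd D.F (σ 2), el_mul,
        ← hσ, ← hpt.eq, mul_inv_cancel_right]
    have key : ∀ σ : Equiv.Perm (Fin 6), Same (vd (σ 0) (σ 1) + vd (σ 2) (σ 1))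
        (vd (Equiv.swap 0 1 (σ 0)) (Equiv.swap 0 1 (σ 1)) + vd (Equiv.swap 0 1 (σ 2)) (Equiv.swap 0 1 (σ 1))) →
        ∃ m : Fin 4, Same (vd (σ 0) (σ 1) + vd (σ 2) (σ 1)) (vd 0 (up m) + vd 1 (up m)) ∨
          Same (vd (σ 0) (σ 1) + vd (σ 2) (σ 1)) (-(vd 0 (up m) + vd 1 (up m))) := by decide +kernel
    have hwp : ∀ m : Fin 4, wsum (vd 0 (up m) + vd 1 (up m)) = 0 ∧ wsum (-(vd 0 (up m) + vd 1 (up m))) = 0 := by
      decide +kernel
    obtain ⟨m, hm⟩ := key σ hfix
    have hm' : p = D.pt m ∨ p = (D.pt m)⁻¹ := by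
      rcases hm with hm | hm
      · left; rw [hσ, (el_eq_iff D.F (hw _ _ _) (hwp m).1).2 hm, ← el_mul, el_vd, el_vd]; rfl
      · right
        rw [hσ, (el_eq_iff D.F (hw _ _ _) (hwp m).2).2 hm, ← el_inv, ← el_mul, el_vd, el_vd]; rfl
    have hne : ∀ w : G, w ∈ zpowers z → p ≠ w := fun w hw e => by
      obtain ⟨s, rfl⟩ := mem_zpowers_iff.1 hw
      have h1 : D.pt k = z⁻¹ ^ s := by
        have e1 : n⁻¹ * z * n = z⁻¹ := by
          calc n⁻¹ * z * n = n⁻¹ * (n * z⁻¹ * n⁻¹) * n := by rw [hnz']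
            _ = z⁻¹ := by group
        rw [← e1]
        have e2 : (n⁻¹ * z * n) ^ s = n⁻¹ * z ^ s * n := by
          conv_lhs => rw [show n⁻¹ * z * n = (MulAut.conj n⁻¹).toMonoidHom z by simp, ← map_zpow]
          simp
        rw [e2, ← e, hp]; group
      obtain ⟨a, ha, b, hb, hab⟩ := (cover_R D 0).2.2.1
      have hall : ∀ x ∈ D.R 0, x = 1 ∨ x = D.t 0 := fun x hx => by
        refine free_all D H hk.symm ((Rq_zero D H).symm ▸ hx) ?_
        rw [h1]
        exact (show Commute x z from mem_centralizer_singleton_iff.1 (D.R_le 0 hx)).inv_right.zpow_right s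
      rcases hall a ha with rfl | rfl
      · exact hab (by rw [one_mul, mul_one])
      · exact hab ((cover_R D 0).1.central b hb).eq.symm
    have hm0 : m ≠ 0 := by
      rintro rfl
      rw [pt_zero] at hm'
      rcases hm' with e | e
      exacts [hne z (mem_zpowers z) e, hne z⁻¹ (inv_mem (mem_zpowers z)) e]
    refine ⟨m, hm0, hm'.resolve_right fun e => ?_⟩
    -- the sign
    obtain ⟨a, ha, b, hb, hab⟩ := (cover_R D 0).2.2.1
    have hall : ∀ x ∈ D.R 0, x = 1 ∨ x = D.t 0 := fun x hx => by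
      refine free_all D H hk.symm ((Rq_zero D H).symm ▸ hx) ?_
      have h1 : Commute ((D.pt k)⁻¹ * (D.pt m)⁻¹) x := e ▸ hdiff x hx
      have h2 : Commute (D.F.j (up m) (up k)) x := (root_zero_comm D hm0 hk hx).symm
      have key : ∀ k m : Fin 4, wsum (-(vd 0 (up k) + vd 1 (up k)) + -(vd 0 (up m) + vd 1 (up m)) + vd (up m) (up k)) = 0 ∧
          wsum (vd 0 (up k) + vd 1 (up k)) = 0 ∧
          Same (vd 0 (up k) + vd 1 (up k))
            (-(vd 0 (up k) + vd 1 (up k)) + -(vd 0 (up m) + vd 1 (up m)) + vd (up m) (up k)) := by decide +kernel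
      have hk' : D.pt k = (D.pt k)⁻¹ * (D.pt m)⁻¹ * D.F.j (up m) (up k) := by
        show D.F.j 0 (up k) * D.F.j 1 (up k) =
          (D.F.j 0 (up k) * D.F.j 1 (up k))⁻¹ * (D.F.j 0 (up m) * D.F.j 1 (up m))⁻¹ * D.F.j (up m) (up k)
        rw [← el_vd, ← el_vd D.F 1 (up k), ← el_vd D.F 0 (up m), ← el_vd D.F 1 (up m), ← el_vd D.F (up m) (up k),
          el_mul, el_mul, el_inv, el_inv, el_mul, el_mul]
        exact (el_eq_iff D.F (key k m).2.1 (key k m).1).2 (key k m).2.2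
      rw [hk']
      exact (h1.mul_left h2).symm
    rcases hall a ha with rfl | rfl
    · exact hab (by rw [one_mul, mul_one])
    · exact hab ((cover_R D 0).1.central b hb).eq.symm
  obtain ⟨a, ha0, ha⟩ := himg 1 (by decide)
  obtain ⟨b, hb0, hb⟩ := himg 2 (by decide)
  obtain ⟨c, hc0, hc⟩ := himg 3 (by decide)
  have hinj : ∀ k l m : Fin 4, n * D.pt k * n⁻¹ = D.pt m → n * D.pt l * n⁻¹ = D.pt m → k = l := by
    intro k l m h1 h2
    have key : ∀ k l : Fin 4, wsum (vd 0 (up k) + vd 1 (up k)) = 0 ∧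
        (Same (vd 0 (up k) + vd 1 (up k)) (vd 0 (up l) + vd 1 (up l)) → k = l) := by decide +kernel
    refine (key k l).2 ((el_eq_iff D.F (key k l).1 (key l l).1).1 ?_)
    rw [← el_mul, ← el_mul, el_vd, el_vd, el_vd, el_vd]
    exact mul_left_cancel (mul_right_cancel (h1.trans h2.symm))
  have key : ∀ a b c : Fin 4, a ≠ 0 → b ≠ 0 → c ≠ 0 → a ≠ b → a ≠ c → b ≠ c →
      wsum (-(vd 0 1 + vd 2 1) + (vd 0 (up a) + vd 1 (up a)) + (vd 0 (up b) + vd 1 (up b)) +
        (vd 0 (up c) + vd 1 (up c))) = 0 ∧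
      ¬ Same (-(vd 0 1 + vd 2 1) + (vd 0 (up a) + vd 1 (up a)) + (vd 0 (up b) + vd 1 (up b)) +
        (vd 0 (up c) + vd 1 (up c))) 0 := by decide +kernel
  obtain ⟨k1, k2⟩ := key a b c ha0 hb0 hc0 (fun e => absurd (hinj 1 2 b (e ▸ ha) hb) (by decide))
    (fun e => absurd (hinj 1 3 c (e ▸ ha) hc) (by decide)) (fun e => absurd (hinj 2 3 c (e ▸ hb) hc) (by decide))
  refine k2 ((el_eq_iff D.F k1 (by decide +kernel)).1 ?_)
  rw [el_zero, ← el_mul, ← el_mul, ← el_mul, ← el_inv, ← el_mul, ← el_mul, ← el_mul, ← el_mul, el_vd, el_vd, el_vd,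
    el_vd, el_vd, el_vd, el_vd, el_vd, ← D.F.hz]
  show z⁻¹ * D.pt a * D.pt b * D.pt c = 1
  rw [← hnz, ← ha, ← hb, ← hc, conj_mul, conj_mul, conj_mul]
  have hsum : z * D.pt 1 * D.pt 2 * D.pt 3 = 1 := by
    show z * (D.F.j 0 (up 1) * D.F.j 1 (up 1)) * (D.F.j 0 (up 2) * D.F.j 1 (up 2)) *
      (D.F.j 0 (up 3) * D.F.j 1 (up 3)) = 1
    conv_lhs => enter [1, 1, 1]; rw [D.F.hz, ← el_vd, ← el_vd D.F 2 1, el_mul]
    rw [← el_vd D.F 0 (up 1), ← el_vd D.F 1 (up 1), ← el_vd D.F 0 (up 2), ← el_vd D.F 1 (up 2),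
      ← el_vd D.F 0 (up 3), ← el_vd D.F 1 (up 3)]
    simp only [el_mul]
    rw [← el_zero D.F]
    exact (el_eq_iff D.F (by decide +kernel) (by decide +kernel)).2 (by decide +kernel)
  rw [hsum, mul_one, mul_inv_cancel]

/-- The elements of order prime to three of the group lie in a normal complement. -/
theorem exists_complement (H : Hyp z Q) :
    ∃ O : Subgroup G, O ≤ YY D ∧ (Nat.card ↥O).Coprime 3 ∧ (∀ x ∈ YY D, (orderOf x).Coprime 3 → x ∈ O) := by
  classical
  haveI : Fact (Nat.Prime 3) := ⟨Nat.prime_three⟩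
  set Y := YY D
  set W : Subgroup ↥Y := (WW D).subgroupOf Y
  have hW3 : IsPGroup 3 ↥W := by
    intro w
    obtain ⟨k, hk⟩ := cJ_pow D (show ((w : ↥Y) : G) ∈ centralizer (D.F.J : Set G) from w.2.1)
    exact ⟨k, Subtype.ext (Subtype.ext hk)⟩
  have hNW : ∀ n : ↥Y, n ∈ normalizer (W : Set ↥Y) → (n : G) ∈ WW D ∨ (n : G) * D.t 0 ∈ WW D := by
    intro n hn
    set zY : ↥Y := ⟨z, (zYY D H).2⟩
    have hzW : zY ∈ W := zYY D H
    have h1 : ((n * zY * n⁻¹ : ↥Y) : G) ∈ WW D := (mem_normalizer_iff.1 hn zY).1 hzW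
    obtain ⟨hcJ, ⟨-, -⟩, hR⟩ := h1
    have hcz : Commute ((n : G) * z * (n : G)⁻¹) z :=
      (mem_centralizer_iff.1 hcJ z (zpow_z_J D (mem_zpowers z))).symm
    have h2 := cent_block_conj D hcz (cent_block D H hcz (fun r hr => (mem_centralizer_iff.1 hR r hr).symm)
      (mem_centralizer_iff.1 hcJ _ (j_mem D.F 0 1)).symm)
    have hne : (n : G) * z * (n : G)⁻¹ ≠ 1 := fun e => z_ne H (by simpa using e)
    rcases zpow_cases H h2 with e | e | e
    · exact absurd e hne
    · exact yz_mem D H n.2 (mul_inv_eq_iff_eq_mul.1 e)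
    · exact (not_invert D H n.2 (e.trans (eq_inv_of_mul_eq_one_left (by
        rw [← pow_succ]; exact z_cube H)))).elim
  obtain ⟨P, hP⟩ := hW3.exists_le_sylow
  have hPW : (P : Subgroup ↥Y) = W := by
    by_contra hne
    have hnil : Group.IsNilpotent ↥(P : Subgroup ↥Y) := P.2.isNilpotent
    obtain ⟨n, hn, hnW⟩ : ∃ n : ↥(P : Subgroup ↥Y),
        n ∈ normalizer ((W.subgroupOf P : Subgroup ↥(P : Subgroup ↥Y)) : Set ↥(P : Subgroup ↥Y)) ∧
          n ∉ W.subgroupOf P := by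
      refine SetLike.exists_of_lt (Group.normalizerCondition_of_isNilpotent _ (lt_top_iff_ne_top.2 fun e => ?_))
      exact hne (le_antisymm (fun x hx => (e ▸ mem_top (⟨x, hx⟩ : ↥(P : Subgroup ↥Y)) : _ ∈ W.subgroupOf P)) hP)
    have hn' : (n : ↥Y) ∈ normalizer (W : Set ↥Y) := by
      refine mem_normalizer_fintype fun w hw => ?_
      exact (mem_normalizer_iff.1 hn ⟨w, hP hw⟩).1 hw
    rcases hNW n hn' with h | h
    · exact hnW h
    · have htY : D.t 0 ∈ Y := by
        have := mul_mem (inv_mem (n : ↥Y).2) h.2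
        rwa [inv_mul_cancel_left] at this
      have htP : (⟨D.t 0, htY⟩ : ↥Y) ∈ (P : Subgroup ↥Y) := by
        have h' : (n : ↥Y) * ⟨D.t 0, htY⟩ ∈ (P : Subgroup ↥Y) := hP (show _ ∈ WW D from h)
        have := mul_mem (inv_mem n.2) h'
        rwa [inv_mul_cancel_left] at this
      obtain ⟨k, hk⟩ := P.2 ⟨_, htP⟩
      have hk' : D.t 0 ^ (3 ^ k) = 1 := congrArg (fun u : ↥(P : Subgroup ↥Y) => ((u : ↥Y) : G)) hk
      obtain ⟨q, hq⟩ := Odd.pow (n := k) (by decide : Odd 3)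
      rw [hq, pow_succ, pow_mul, pow_two, t_sq D 0, one_pow, one_mul] at hk'
      exact t_ne D 0 hk'
  have hcentral : normalizer ((P : Subgroup ↥Y) : Set ↥Y) ≤ centralizer ((P : Subgroup ↥Y) : Set ↥Y) := by
    intro n hn
    rw [hPW] at hn ⊢
    refine mem_centralizer_iff.2 fun w hw => Subtype.ext ?_
    show (w : G) * n = n * w
    have hwt : Commute (w : G) (D.t 0) := mem_centralizer_singleton_iff.1 w.2.1.1
    rcases hNW n hn with h | h
    · exact (cJ_comm D hw.1 h.1).eq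
    · have := (cJ_comm D hw.1 h.1).mul_right hwt
      rw [mul_assoc, t_sq D 0, mul_one] at this
      exact this.eq
  set K := (MonoidHom.transferSylow P hcentral).ker
  have hK3 : ¬ 3 ∣ Nat.card ↥K := MonoidHom.not_dvd_card_ker_transferSylow P hcentral
  refine ⟨K.map Y.subtype, map_subtype_le K, ?_, fun x hx hxo => ?_⟩
  · rw [card_map_of_injective Y.subtype_injective]
    exact ((Nat.prime_three.coprime_iff_not_dvd).2 hK3).symm
  · refine ⟨⟨x, hx⟩, ?_, rfl⟩
    set f := MonoidHom.transferSylow P hcentral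
    have h1 : orderOf (f ⟨x, hx⟩) ∣ orderOf x := by
      rw [← Subgroup.orderOf_mk x hx]; exact orderOf_map_dvd f _
    obtain ⟨k, hk⟩ := P.2 (f ⟨x, hx⟩)
    have h2 : orderOf (f ⟨x, hx⟩) ∣ 3 ^ k := orderOf_dvd_of_pow_eq_one hk
    exact orderOf_eq_one_iff.1 (Nat.eq_one_of_dvd_coprimes (hxo.pow_right k) h1 h2)

/-- The elements of order prime to three centralising the root, the first quaternion group and `t` lie in the
quaternion group at the second point. -/
theorem root_max_zero (H : Hyp z Q) {x : G} (hx : x ∈ YY D) (hxo : (orderOf x).Coprime 3) : x ∈ Rq D 1 := by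
  obtain ⟨O, hOY, hO3, hOmem⟩ := exists_complement D H
  refine (show O ≤ Rq D 1 from ?_) (hOmem x hx hxo)
  have hjO : ∀ y ∈ D.F.J ⊓ centralizer ({D.t 0} : Set G), y ∈ normalizer (O : Set G) := by
    intro y hy
    have hyt : Commute y (D.t 0) := mem_centralizer_singleton_iff.1 hy.2
    have hya : Commute y (D.F.j 4 5) := frame_commute hy.1 (j_mem D.F _ _)
    have hyN : y ∈ normalizer (D.R 0 : Set G) := norm_R0 D H ⟨hy.2,
      mem_centralizer_singleton_iff.2 (frame_commute hy.1 (zpow_z_J D (mem_zpowers z))).eq⟩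
    refine mem_normalizer_fintype fun w hw => hOmem _ ?_ ?_
    · obtain ⟨⟨hwt, hwa⟩, hwR⟩ := hOY hw
      refine ⟨⟨mem_centralizer_singleton_iff.2 ((hyt.mul_left (mem_centralizer_singleton_iff.1 hwt :)).mul_left
        hyt.inv_left).eq, mem_centralizer_singleton_iff.2
        ((hya.mul_left (mem_centralizer_singleton_iff.1 hwa :)).mul_left hya.inv_left).eq⟩,
        mem_centralizer_iff.2 fun s hs => ?_⟩
      have hs' : y⁻¹ * s * y ∈ D.R 0 := by
        have := (mem_normalizer_iff.1 (inv_mem hyN) s).1 hs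
        rwa [inv_inv] at this
      calc s * (y * w * y⁻¹) = y * (y⁻¹ * s * y * w) * y⁻¹ := by group
        _ = y * (w * (y⁻¹ * s * y)) * y⁻¹ := by rw [mem_centralizer_iff.1 hwR _ hs']
        _ = y * w * y⁻¹ * s := by group
    · rw [show y * w * y⁻¹ = MulAut.conj y w from rfl, MulEquiv.orderOf_eq]
      exact Nat.Coprime.coprime_dvd_left (Subgroup.orderOf_dvd_natCard _ hw) hO3
  have hpJ : ∀ k : Fin 4, D.pt k ∈ D.F.J := fun k => mul_mem (j_mem D.F _ _) (j_mem D.F _ _)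
  have hpJt : ∀ k : Fin 4, D.pt k ∈ D.F.J ⊓ centralizer ({D.t 0} : Set G) := fun k =>
    ⟨hpJ k, mem_centralizer_singleton_iff.2 (pt_comm_t D k).symm.eq⟩
  have hcopO : ∀ X : Subgroup G, X ≤ O → (Nat.card ↥X).Coprime 3 := fun X hX =>
    Nat.Coprime.coprime_dvd_left (card_dvd_of_le hX) hO3
  -- the parts centralised by points
  have hpart : ∀ (k : Fin 4) (X : Subgroup G), X ≤ O → (∀ y ∈ D.F.J ⊓ centralizer ({D.t 0} : Set G),
      y ∈ normalizer (X : Set G)) → X ≤ centralizer ({D.pt k} : Set G) → X ≤ Rq D k :=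
    fun k X hXO hXn hXc => Rq_max D H k (le_inf (hXO.trans (hOY.trans (inf_le_left.trans inf_le_left))) hXc)
      (hcopO X hXO) hXn
  have hcentJ : ∀ {v : G}, v ∈ O → Commute v z → v = 1 ∨ v = D.t 0 := fun {v} hv hvz => by
    rcases yz_mem D H (hOY hv) hvz with h | h
    · left
      obtain ⟨k, hk⟩ := cJ_pow D h.1
      exact orderOf_eq_one_iff.1 (Nat.eq_one_of_dvd_coprimes ((hcopO O le_rfl).pow_right k)
        (Subgroup.orderOf_dvd_natCard _ hv) (orderOf_dvd_of_pow_eq_one hk))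
    · right
      obtain ⟨k, hk⟩ := cJ_pow D h.1
      have htO : D.t 0 ∈ O := by
        refine hOmem _ ⟨⟨mem_centralizer_singleton_iff.2 rfl, mem_centralizer_singleton_iff.2
          (tQ1 D D.j_one.2).eq⟩, mem_centralizer_iff.2 fun r hr => (tR D hr).eq⟩ ?_
        rw [orderOf_eq_prime (p := 2) (by rw [pow_two]; exact t_sq D 0) (t_ne D 0)]
        decide
      have e : v * D.t 0 = 1 := orderOf_eq_one_iff.1 (Nat.eq_one_of_dvd_coprimes ((hcopO O le_rfl).pow_right k)
        (Subgroup.orderOf_dvd_natCard _ (mul_mem hv htO)) (orderOf_dvd_of_pow_eq_one hk))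
      rw [eq_inv_of_mul_eq_one_left e, t_inv_self D 0]
  have ht1 : D.t 0 ∈ Rq D 1 := by
    have hc : mv D 1 * D.t 0 = D.t 0 * mv D 1 := mem_centralizer_singleton_iff.1 (mv_mem D 1).2
    rw [Rq, mem_cj, mul_assoc, ← hc, inv_mul_cancel_left]
    exact D.t_mem 0
  have hsmall : ∀ {v : G}, (v = 1 ∨ v = D.t 0) → v ∈ Rq D 1 := fun h => by
    rcases h with rfl | rfl
    exacts [one_mem _, ht1]
  -- the subgroup generated by the two points
  set U := closure ({z, D.pt 1} : Set G) with hU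
  have hzJt : z ∈ D.F.J ⊓ centralizer ({D.t 0} : Set G) := by
    have h0 := hpJt 0
    rwa [pt_zero] at h0
  have hUJ : U ≤ D.F.J ⊓ centralizer ({D.t 0} : Set G) := by
    rw [hU, closure_le]
    rintro _ (rfl | rfl)
    exacts [hzJt, hpJt 1]
  have hUc : IsMulCommutative ↥U :=
    ⟨⟨fun a b => Subtype.ext (frame_commute (hUJ a.2).1 (hUJ b.2).1).eq⟩⟩
  have hz3 : z * z * z = 1 := J_cube hzJt.1
  have hy3 : D.pt 1 * D.pt 1 * D.pt 1 = 1 := J_cube (hpJ 1)
  have hform : ∀ a ∈ U, ∃ p q : Fin 3, a = z ^ p.val * D.pt 1 ^ q.val := by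
    intro a ha
    have hp3 : ∀ n : ℕ, z ^ n = z ^ (n % 3) := fun n => pow_eq_pow_mod n (by rw [pow_succ, pow_two, hz3])
    have hq3 : ∀ n : ℕ, D.pt 1 ^ n = D.pt 1 ^ (n % 3) := fun n => pow_eq_pow_mod n (by rw [pow_succ, pow_two, hy3])
    have hc : ∀ n n' : ℕ, Commute (D.pt 1 ^ n) (z ^ n') := fun n n' =>
      (frame_commute (hpJ 1) hzJt.1).pow_pow n n'
    induction ha using closure_induction with
    | mem a ha =>
      rcases ha with rfl | rfl
      · exact ⟨1, 0, by simp⟩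
      · exact ⟨0, 1, by simp⟩
    | one => exact ⟨0, 0, by simp⟩
    | mul a b _ _ iha ihb =>
      obtain ⟨p, q, rfl⟩ := iha
      obtain ⟨p', q', rfl⟩ := ihb
      exact ⟨⟨(p.val + p'.val) % 3, Nat.mod_lt _ (by norm_num)⟩, ⟨(q.val + q'.val) % 3, Nat.mod_lt _ (by norm_num)⟩,
        by rw [(hc q p').mul_mul_mul_comm, ← pow_add, ← pow_add, hp3, hq3]⟩
    | inv a _ iha =>
      obtain ⟨p, q, rfl⟩ := iha
      refine ⟨⟨(2 * p.val) % 3, Nat.mod_lt _ (by norm_num)⟩, ⟨(2 * q.val) % 3, Nat.mod_lt _ (by norm_num)⟩, ?_⟩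
      refine inv_eq_of_mul_eq_one_right ?_
      rw [(hc _ _).mul_mul_mul_comm, ← hp3, ← hq3, ← pow_add, ← pow_add,
        show p.val + 2 * p.val = 3 * p.val by ring, show q.val + 2 * q.val = 3 * q.val by ring,
        pow_mul, pow_mul, pow_succ, pow_two, hz3, pow_succ, pow_two, hy3, one_pow, one_pow, one_mul]
  have hncyc : ¬ IsCyclic ↥U := by
    intro hcy
    obtain ⟨g, hg⟩ := hcy.exists_generator
    let y' : ↥U := ⟨D.pt 1, subset_closure (Or.inr rfl)⟩
    let z' : ↥U := ⟨z, subset_closure (Or.inl rfl)⟩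
    have hle : zpowers z' = ⊤ := by
      refine eq_top_of_le_card _ ?_
      rw [Nat.card_zpowers, ← orderOf_eq_card_of_forall_mem_zpowers hg]
      refine le_of_le_of_eq ?_ (H.oz.symm.trans (Subgroup.orderOf_coe z'))
      refine Nat.le_of_dvd (by norm_num) (orderOf_dvd_of_pow_eq_one (Subtype.ext ?_))
      show (g : G) ^ 3 = 1
      rw [pow_succ, pow_two, J_cube (hUJ g.2).1]
    obtain ⟨s, hs⟩ := mem_zpowers_iff.1 (hle.symm ▸ mem_top y')
    have hs' : z ^ s = D.pt 1 := congrArg Subtype.val hs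
    obtain ⟨a, ha, b, hb, hab⟩ := (cover_R D 0).2.2.1
    have hall : ∀ r ∈ D.R 0, r = 1 ∨ r = D.t 0 := fun r hr => free_all D H (by decide : (0 : Fin 4) ≠ 1)
      ((Rq_zero D H).symm ▸ hr)
      (hs' ▸ (show Commute r z from mem_centralizer_singleton_iff.1 (D.R_le 0 hr)).zpow_right s)
    rcases hall a ha with rfl | rfl
    · exact hab (by rw [one_mul, mul_one])
    · exact hab ((cover_R D 0).1.central b hb).eq.symm
  -- the centralisers of the elements
  have hnormC : ∀ a ∈ D.F.J, ∀ (X : Subgroup G), (∀ y ∈ D.F.J ⊓ centralizer ({D.t 0} : Set G),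
      y ∈ normalizer (X : Set G)) → ∀ y ∈ D.F.J ⊓ centralizer ({D.t 0} : Set G),
      y ∈ normalizer ((X ⊓ centralizer ({a} : Set G) : Subgroup G) : Set G) := by
    intro a haJ X hX y hy
    refine mem_normalizer_fintype fun w hw => ⟨(mem_normalizer_iff.1 (hX y hy) w).1 hw.1, ?_⟩
    have hya : Commute y a := frame_commute hy.1 haJ
    exact mem_centralizer_singleton_iff.2
      ((hya.mul_left (mem_centralizer_singleton_iff.1 hw.2 :)).mul_left hya.inv_left).eq
  have hb : ∀ v ∈ O, Commute v (z * D.pt 1) → v ∈ Rq D 1 := by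
    intro v hv hvb
    have hva : Commute v (D.F.j 4 5) := mem_centralizer_singleton_iff.1 (hOY hv).1.2
    set X := O ⊓ centralizer ({D.pt 2} : Set G) ⊓ centralizer ({D.pt 3} : Set G)
    have hXn : ∀ y ∈ D.F.J ⊓ centralizer ({D.t 0} : Set G), y ∈ normalizer (X : Set G) :=
      hnormC _ (hpJ 3) _ (hnormC _ (hpJ 2) _ hjO)
    have e2 : D.pt 2 = z * D.pt 1 * (D.F.j 4 5 * D.F.j 4 5) := by
      show D.F.j 0 (up 2) * D.F.j 1 (up 2) = z * (D.F.j 0 (up 1) * D.F.j 1 (up 1)) * (D.F.j 4 5 * D.F.j 4 5)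
      conv_rhs => enter [1, 1]; rw [D.F.hz, ← el_vd, ← el_vd D.F 2 1, el_mul]
      rw [← el_vd, ← el_vd D.F 1 (up 2), ← el_vd D.F 0 (up 1), ← el_vd D.F 1 (up 1), ← el_vd D.F 4 5]
      simp only [el_mul]
      exact (el_eq_iff D.F (by decide +kernel) (by decide +kernel)).2 (by decide +kernel)
    have e3 : D.pt 3 = z * D.pt 1 * D.F.j 4 5 := by
      show D.F.j 0 (up 3) * D.F.j 1 (up 3) = z * (D.F.j 0 (up 1) * D.F.j 1 (up 1)) * D.F.j 4 5
      conv_rhs => enter [1, 1]; rw [D.F.hz, ← el_vd, ← el_vd D.F 2 1, el_mul]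
      rw [← el_vd, ← el_vd D.F 1 (up 3), ← el_vd D.F 0 (up 1), ← el_vd D.F 1 (up 1), ← el_vd D.F 4 5]
      simp only [el_mul]
      exact (el_eq_iff D.F (by decide +kernel) (by decide +kernel)).2 (by decide +kernel)
    have hvX : v ∈ X := ⟨⟨hv, mem_centralizer_singleton_iff.2 (e2 ▸ (hvb.mul_right (hva.mul_right hva)).eq)⟩,
      mem_centralizer_singleton_iff.2 (e3 ▸ (hvb.mul_right hva).eq)⟩
    have h2 : v ∈ Rq D 2 := hpart 2 X (inf_le_left.trans inf_le_left) hXn (inf_le_left.trans inf_le_right) hvX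
    exact hsmall (free_all D H (by decide : (2 : Fin 4) ≠ 3) h2 (mem_centralizer_singleton_iff.1 hvX.2))
  have hroot : ∀ v ∈ O, Commute v (D.F.j 2 3) → v ∈ Rq D 1 := by
    intro v hv hvr
    set X := O ⊓ centralizer ({D.F.j 2 3} : Set G)
    have hXn : ∀ y ∈ D.F.J ⊓ centralizer ({D.t 0} : Set G), y ∈ normalizer (X : Set G) :=
      hnormC _ (j_mem D.F 2 3) _ hjO
    -- a permutation moves the pair of orthogonal roots
    obtain ⟨m, hm, hmj⟩ := lift_perm D (Equiv.swap 3 4) (by decide +kernel)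
    have hmt : Commute m (D.t 0) := mem_centralizer_singleton_iff.1 hm.2
    have hwJ : m⁻¹ * v * m ∈ normalizer (D.F.J : Set G) := by
      have conj : ∀ a b, Commute v (D.F.j (Equiv.swap 3 4 a) (Equiv.swap 3 4 b)) →
          m⁻¹ * v * m ∈ centralizer ({D.F.j a b} : Set G) := fun a b h => by
        rw [← hmj] at h
        have := h.map (MulAut.conj m⁻¹).toMonoidHom
        simp only [MulEquiv.coe_toMonoidHom, MulAut.conj_apply, inv_inv] at this
        rw [show m⁻¹ * (m * D.F.j a b * m⁻¹) * m = D.F.j a b by group] at this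
        exact mem_centralizer_singleton_iff.2 this.eq
      refine D.centAA ⟨⟨conj 2 4 ?_, conj 3 5 ?_⟩, ?_⟩
      · exact hvr
      · exact mem_centralizer_singleton_iff.1 (hOY hv).1.2
      · have h1 : m ∈ centralizer ({D.t 0} : Set G) := hm.2
        have h2 : v ∈ centralizer ({D.t 0} : Set G) := (hOY hv).1.1
        exact (mul_mem (mul_mem (inv_mem h1) h2) h1 :)
    have hvJ : v ∈ normalizer (D.F.J : Set G) := by
      have h1 : m ∈ normalizer (D.F.J : Set G) := hm.1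
      have := mul_mem (mul_mem h1 hwJ) (inv_mem h1)
      rwa [show m * (m⁻¹ * v * m) * m⁻¹ = v by group] at this
    refine hsmall (hcentJ hv ?_)
    have hd : v * z * v⁻¹ * z⁻¹ ∈ D.F.J :=
      mul_mem ((mem_normalizer_iff.1 hvJ z).1 hzJt.1) (inv_mem hzJt.1)
    have hd' : v * z * v⁻¹ * z⁻¹ ∈ O := by
      have := mul_mem hv ((mem_normalizer_iff.1 (hjO z hzJt) _).1 (inv_mem hv))
      rwa [show v * (z * v⁻¹ * z⁻¹) = v * z * v⁻¹ * z⁻¹ by group] at this
    exact mul_inv_eq_iff_eq_mul.1 (mul_inv_eq_one.1 (orderOf_eq_one_iff.1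
      (Nat.eq_one_of_dvd_coprimes hO3 (Subgroup.orderOf_dvd_natCard _ hd')
        (orderOf_dvd_of_pow_eq_one (by rw [pow_succ, pow_two, J_cube hd])))))
  rw [← Coprime.iSup_centralizer_eq (A := U) (K := O) hncyc (fun y hy => hjO y (hUJ hy)) (by
    obtain ⟨k, hk⟩ := IsPGroup.iff_card.1 ((jt_three D.F (D.t 0)).to_le hUJ)
    rw [hk]; exact hO3.symm.pow_left k)]
  refine iSup₂_le fun a ha => ?_
  rintro v ⟨hv, hva⟩
  replace hva : Commute v a := mem_centralizer_singleton_iff.1 hva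
  obtain ⟨p, q, hpq⟩ := hform a ha.1
  have inv2 : ∀ y : G, y * y * y = 1 → y = (y ^ 2)⁻¹ := fun y hy =>
    eq_inv_of_mul_eq_one_left (by rw [pow_two, ← mul_assoc, hy])
  have hcz : Commute v z → v ∈ Rq D 1 := fun h => hsmall (hcentJ hv h)
  have hcy : Commute v (D.pt 1) → v ∈ Rq D 1 := fun h =>
    hpart 1 (O ⊓ centralizer ({D.pt 1} : Set G)) inf_le_left (hnormC _ (hpJ 1) _ hjO) inf_le_right
      ⟨hv, mem_centralizer_singleton_iff.2 h.eq⟩
  have hzy : Commute z (D.pt 1) := frame_commute hzJt.1 (hpJ 1)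
  have e23 : D.F.j 2 3 = z * D.pt 1 ^ 2 := by
    show _ = z * (D.F.j 0 (up 1) * D.F.j 1 (up 1)) ^ 2
    conv_rhs => enter [1]; rw [D.F.hz, ← el_vd, ← el_vd D.F 2 1, el_mul]
    rw [← el_vd, ← el_vd D.F 0 (up 1), ← el_vd D.F 1 (up 1), el_mul, el_pow, el_mul]
    exact (el_eq_iff D.F (by decide +kernel) (by decide +kernel)).2 (by decide +kernel)
  fin_cases p <;> fin_cases q <;> simp only [pow_zero, pow_one, one_mul, mul_one] at hpq <;> subst hpq
  · exact absurd rfl ha.2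
  · exact hcy hva
  · exact hcy (inv2 _ hy3 ▸ hva.inv_right)
  · exact hcz hva
  · exact hb v hv hva
  · exact hroot v hv (e23 ▸ hva)
  · exact hcz (inv2 _ hz3 ▸ hva.inv_right)
  · refine hroot v hv (e23 ▸ ?_)
    rw [show z * D.pt 1 ^ 2 = (z ^ 2 * D.pt 1)⁻¹ by
      rw [mul_inv_rev, ← inv2 _ hz3, show (D.pt 1)⁻¹ = D.pt 1 ^ 2 from inv_eq_of_mul_eq_one_right (by
        rw [pow_two, ← mul_assoc, hy3])]
      exact (hzy.pow_right 2).eq]
    exact hva.inv_right
  · refine hb v hv ?_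
    rw [show z * D.pt 1 = (z ^ 2 * D.pt 1 ^ 2)⁻¹ by rw [mul_inv_rev, ← inv2 _ hz3, ← inv2 _ hy3]; exact hzy.eq]
    exact hva.inv_right

end Cfsg.Agent.U62Three.K
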