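import Cfsg.Agent.U62Three.K.P.Adjust
import Cfsg.Agent.U62Three.K.P.Codes
import Cfsg.Agent.U62Three.K.P.RootMax

/-!
# The quaternion groups at two points commute
-/

set_option autoImplicit false
set_option linter.unusedSectionVars false
set_option synthInstance.maxSize 4000
set_option synthInstance.maxHeartbeats 400000

open Subgroup

namespace Cfsg.Agent.U62Three.K

open Cfsg.Agent.Sp6Local
open Cfsg.Agent.Sym9ThreeLocal hiding Conf

universe u

variable {G : Type u} [Group G] [Finite G] {z : G} {Q : Subgroup G} {D : Facts z Q}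

theorem pow_four_one (D : Facts z Q) {r : G} (h : r * r = D.t 0) : r ^ 4 = 1 := by
  rw [pow_succ, pow_succ, pow_two, mul_assoc (r * r), h, t_sq D 0]

/-- A member of the first quaternion group other than `1` and `t` does not commute with its conjugate by the second
point. -/
theorem R0_moved (H : Hyp z Q) {r : G} (hr : r ∈ D.R 0) (h1 : r ≠ 1) (ht : r ≠ D.t 0)
    (hc : Commute r (D.pt 1 * r * (D.pt 1)⁻¹)) : False := by
  set y := D.pt 1
  have hyJ : y ∈ D.F.J := mul_mem (j_mem D.F _ _) (j_mem D.F _ _)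
  have hyt : Commute (D.t 0) y := pt_comm_t D 1
  have hyz : Commute y z := frame_commute hyJ (zpow_z_J D (mem_zpowers z))
  have hyN : y ∈ normalizer (D.R 0 : Set G) :=
    norm_R0 D H ⟨mem_centralizer_singleton_iff.2 hyt.symm.eq, mem_centralizer_singleton_iff.2 hyz.eq⟩
  have hfree : ¬ Commute r y := fun h => by
    rcases free_zero D H hr h with e | e
    exacts [h1 e, ht e]
  have hrr : r * r = D.t 0 := by
    rcases (cover_R D 0).1.sq r hr with e | e
    · rcases (cover_R D 0).2.2.2.1 r hr e with e' | e'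
      exacts [absurd e' h1, absurd e' ht]
    · exact e
  have hy3 : y * y * y = 1 := J_cube hyJ
  have htc : ∀ {w : G}, w ∈ D.R 0 → Commute w (D.t 0) := fun hw => tR D hw
  rcases (cover_R D 0).2.2.2.2 r hr (by rw [hrr]; exact t_ne D 0) _ ((mem_normalizer_iff.1 hyN r).1 hr)
    hc.symm with e | e | e | e
  · exact h1 (by simpa using e)
  · exact hfree (mul_inv_eq_iff_eq_mul.1 e).symm
  · rw [hrr] at e
    exact ht (by
      calc r = y⁻¹ * (y * r * y⁻¹) * y := by group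
        _ = D.t 0 := by rw [e, mul_assoc, hyt.eq, inv_mul_cancel_left])
  · rw [hrr, ← (htc hr).eq] at e
    have e2 : y * (y * r * y⁻¹) * y⁻¹ = r * D.t 0 * D.t 0 := by
      rw [e, ← conj_mul, e, ← hyt.eq, mul_inv_cancel_right]
    rw [mul_assoc r, t_sq D 0, mul_one] at e2
    have e3 : y * y * y * r * (y * y * y)⁻¹ = r * D.t 0 := by
      rw [← e]
      conv_rhs => rw [← e2]
      group
    rw [hy3, one_mul, inv_one, mul_one] at e3
    exact t_ne D 0 (left_eq_mul.1 e3)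

/-- A member of the second quaternion group other than `1` and `t` does not commute with its conjugate by `z`. -/
theorem R1_moved (H : Hyp z Q) {s : G} (hs : s ∈ Rq D 1) (h1 : s ≠ 1) (ht : s ≠ D.t 0)
    (hc : Commute s (z * s * z⁻¹)) : False := by
  set n := mv D 1
  rw [Rq, mem_cj] at hs
  have hnt : Commute n (D.t 0) := mem_centralizer_singleton_iff.1 (mv_mem D 1).2
  have hz : n⁻¹ * z * n = D.pt 1 := by
    have := mv_pt D 1 1
    rw [Equiv.swap_apply_right, pt_zero] at this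
    calc n⁻¹ * z * n = n⁻¹ * (n * D.pt 1 * n⁻¹) * n := by rw [this]
      _ = D.pt 1 := by group
  refine R0_moved H hs (fun e => h1 ?_) (fun e => ht ?_) ?_
  · calc s = n * (n⁻¹ * s * n) * n⁻¹ := by group
      _ = 1 := by rw [e]; group
  · calc s = n * (n⁻¹ * s * n) * n⁻¹ := by group
      _ = D.t 0 := by rw [e, hnt.eq, mul_inv_cancel_right]
  · have := hc.map (MulAut.conj n⁻¹).toMonoidHom
    simp only [MulEquiv.coe_toMonoidHom, MulAut.conj_apply, inv_inv] at this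
    rwa [show n⁻¹ * (z * s * z⁻¹) * n = n⁻¹ * z * n * (n⁻¹ * s * n) * (n⁻¹ * z * n)⁻¹ by group, hz] at this

variable {A : Subgroup G} (B : Base D A)

include B

theorem Base.mv_cA : mv D 1 ∈ cA A :=
  mem_centralizer_iff.2 fun x hx => (B.fix _ (mv_mem D 1).1 _ (mv_j D 1) (by decide) (by decide) x hx).eq.symm

theorem Base.R1_cA (H : Hyp z Q) : Rq D 1 ≤ cA A := fun s hs => by
  rw [Rq, mem_cj] at hs
  have := mul_mem (mul_mem B.mv_cA (B.R0_cA H hs)) (inv_mem B.mv_cA)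
  rwa [show mv D 1 * ((mv D 1)⁻¹ * s * mv D 1) * (mv D 1)⁻¹ = s by group] at this

theorem Base.pt_cA (k : Fin 4) : D.pt k ∈ cA A := B.J_cA (mul_mem (j_mem D.F _ _) (j_mem D.F _ _))

/-- Elements commuting modulo `A` commute when one has order dividing four. -/
theorem Base.comm_lift {r s : G} (hr : r ∈ cA A) (hs : s ∈ cA A) (h4 : s ^ 4 = 1)
    (h : Commute (QuotientGroup.mk ⟨r, hr⟩ : XQ A) (QuotientGroup.mk ⟨s, hs⟩)) : Commute r s := by
  set c := r * s * r⁻¹ * s⁻¹ with hc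
  have hcA : c ∈ A := by
    refine (pmk_one (g := ⟨r, hr⟩ * ⟨s, hs⟩ * (⟨r, hr⟩ : ↥(cA A))⁻¹ * (⟨s, hs⟩ : ↥(cA A))⁻¹)).1 ?_
    rw [QuotientGroup.mk_mul, QuotientGroup.mk_mul, QuotientGroup.mk_mul, QuotientGroup.mk_inv,
      QuotientGroup.mk_inv, h.eq, mul_inv_cancel_right, mul_inv_cancel]
  have hcs : Commute c s := mem_centralizer_iff.1 hs c hcA
  have h1 : (r * s * r⁻¹) ^ 4 = 1 := by rw [conj_pow, h4, mul_one, mul_inv_cancel]
  rw [show r * s * r⁻¹ = c * s by rw [hc]; group, hcs.mul_pow, h4, mul_one, pow_succ, B.cube c hcA, one_mul] at h1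
  exact mul_inv_eq_iff_eq_mul.1 (mul_inv_eq_one.1 h1)

/-- The two quaternion groups commute. -/
theorem Base.comm01 (H : Hyp z Q)
    (hA : centralizer (D.F.J : Set G) = D.F.J ∨ ∃ W : Wide D.F, W.e 4 ∈ A) :
    ∀ r ∈ D.R 0, ∀ s ∈ Rq D 1, Commute r s := by
  classical
  obtain ⟨h, hJ, hx⟩ := B.exists_conf H
  obtain ⟨X0, ht, ⟨F⟩, hC, h3, -⟩ := B.codes hJ hx H hA
  set t := D.t 0 with htd
  have hzy : z ∈ normalizer (Rq D 1 : Set G) :=
    Rq_norm D H 1 ⟨mem_centralizer_singleton_iff.2 (mem_centralizer_singleton_iff.1 (t_cent D 0)).symm,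
      mem_centralizer_singleton_iff.2 (frame_commute (zpow_z_J D (mem_zpowers z))
        (mul_mem (j_mem D.F _ _) (j_mem D.F _ _))).eq⟩
  have hs4 : ∀ s ∈ Rq D 1, s ≠ 1 → s ≠ t → s * s = t := by
    intro s hs h1 h2
    rw [Rq, mem_cj] at hs
    have hnt : Commute (mv D 1) t := mem_centralizer_singleton_iff.1 (mv_mem D 1).2
    rcases (cover_R D 0).1.sq _ hs with e | e
    · rcases (cover_R D 0).2.2.2.1 _ hs e with e' | e'
      · exact absurd (by calc s = mv D 1 * ((mv D 1)⁻¹ * s * mv D 1) * (mv D 1)⁻¹ := by group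
          _ = 1 := by rw [e']; group) h1
      · exact absurd (by calc s = mv D 1 * ((mv D 1)⁻¹ * s * mv D 1) * (mv D 1)⁻¹ := by group
          _ = t := by rw [e', hnt.eq, mul_inv_cancel_right]) h2
    · calc s * s = mv D 1 * (((mv D 1)⁻¹ * s * mv D 1) * ((mv D 1)⁻¹ * s * mv D 1)) * (mv D 1)⁻¹ := by group
        _ = t := by rw [e, hnt.eq, mul_inv_cancel_right]
  have hst : ∀ s ∈ Rq D 1, Commute s t := fun s hs => mem_centralizer_singleton_iff.1 (Rq_le D 1 hs).1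
  have hyv : ∀ (w : G) (hw : w ∈ D.F.J), w ∉ zpowers (ra D) →
      (QuotientGroup.mk ⟨w, B.J_cA hw⟩ : XQ A) ≠ 1 := fun w hw hwa e => hwa (B.inter ⟨hw, pmk_one.1 e⟩)
  -- the codes of elements
  have code : ∀ (g : G) (hg : g ∈ cA A), Commute g t → (QuotientGroup.mk ⟨g, hg⟩ : XQ A) ∈ X0 →
      ∃ x, x < 576 ∧ ((F.f x : ↥X0) : XQ A) = QuotientGroup.mk ⟨g, hg⟩ := by
    intro g hg hgt hgX
    obtain ⟨x, hx', e⟩ := F.surj ⟨_, hgX⟩ (Subtype.ext (by
      show (QuotientGroup.mk ⟨g, hg⟩ : XQ A) * B.tX = B.tX * QuotientGroup.mk ⟨g, hg⟩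
      exact congrArg QuotientGroup.mk (Subtype.ext hgt.eq : (⟨g, hg⟩ * ⟨D.t 0, B.t_cA⟩ : ↥(cA A)) = _)))
    exact ⟨x, hx', congrArg Subtype.val e⟩
  have hcomC : ∀ {g k : G} (hg : g ∈ cA A) (hk : k ∈ cA A) {x y : ℕ}, x < 576 → y < 576 →
      ((F.f x : ↥X0) : XQ A) = QuotientGroup.mk ⟨g, hg⟩ → ((F.f y : ↥X0) : XQ A) = QuotientGroup.mk ⟨k, hk⟩ →
      (Commute (QuotientGroup.mk ⟨g, hg⟩ : XQ A) (QuotientGroup.mk ⟨k, hk⟩) ↔ PSp43Rec.comC x y = true) := by
    intro g k hg hk x y hx' hy ex ey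
    rw [← F.commute_iff hx' hy, ← ex, ← ey, commute_iff_eq, commute_iff_eq, Subtype.ext_iff]
    rfl
  have hcube : ∀ {w : G} (hw : w ∈ cA A), w * w * w = 1 → (QuotientGroup.mk ⟨w, hw⟩ : XQ A) ∈ X0 :=
    fun {w} hw hw3 => h3 _ (by
      rw [← QuotientGroup.mk_pow, show (⟨w, hw⟩ : ↥(cA A)) ^ 3 = 1 from Subtype.ext (by
        show w ^ 3 = 1
        rw [pow_succ, pow_two, hw3]), QuotientGroup.mk_one])
  have hR0X : ∀ {r : G} (hr : r ∈ D.R 0), (QuotientGroup.mk ⟨r, B.R0_cA H hr⟩ : XQ A) ∈ X0 := fun {r} hr =>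
    hC (mem_centralizer_singleton_iff.2 (congrArg QuotientGroup.mk (Subtype.ext
      (mem_centralizer_singleton_iff.1 (D.R_le 0 hr)) : (⟨r, B.R0_cA H hr⟩ * ⟨z, B.z_cA⟩ : ↥(cA A)) = _)))
  -- the two elements of order three
  have hyJ : D.pt 1 ∈ D.F.J := mul_mem (j_mem D.F _ _) (j_mem D.F _ _)
  have hzJ : z ∈ D.F.J := B.zJ
  have hnot : z ∉ zpowers (ra D) ∧ D.pt 1 ∉ zpowers (ra D) := by
    have key : ∀ v : V6, (v = vd 0 1 + vd 2 1 ∨ v = vd 0 (up 1) + vd 1 (up 1)) → ∀ i : Fin 3,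
        wsum v = 0 ∧ wsum (i.val • vd 4 5) = 0 ∧ ¬ Same v (i.val • vd 4 5) := by
      rintro v (rfl | rfl) <;> decide +kernel
    have gen : ∀ v : V6, (v = vd 0 1 + vd 2 1 ∨ v = vd 0 (up 1) + vd 1 (up 1)) → el D.F v ∉ zpowers (ra D) := by
      intro v hv hmem
      obtain ⟨m, hm⟩ := mem_zpowers_iff.1 hmem
      have h3 : ra D ^ (3 : ℤ) = 1 := by
        rw [show (3 : ℤ) = 1 + 1 + 1 from rfl, zpow_add, zpow_add, zpow_one]; exact D.F.cube 4 5
      rw [← Int.emod_add_mul_ediv m 3, zpow_add, zpow_mul, h3, one_zpow, mul_one] at hm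
      obtain ⟨k1, k2, k3⟩ := key v hv ⟨(m % 3).toNat, by omega⟩
      refine k3 ((el_eq_iff D.F k1 k2).1 ?_)
      rw [← el_pow, el_vd]
      refine hm.symm.trans ?_
      show ra D ^ (m % 3) = ra D ^ (m % 3).toNat
      rw [← zpow_natCast, Int.toNat_of_nonneg (by omega)]
    constructor
    · have := gen _ (Or.inl rfl)
      rw [← el_mul, el_vd, el_vd, ← D.F.hz] at this
      exact this
    · have := gen _ (Or.inr rfl)
      rw [← el_mul, el_vd, el_vd] at this
      exact this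
  have three : ∀ (w : G) (hw : w ∈ D.F.J), w ∉ zpowers (ra D) → Commute w t →
      ∃ e, e ∈ PCode.lThree ∧ ((F.f e : ↥X0) : XQ A) = QuotientGroup.mk ⟨w, B.J_cA hw⟩ := by
    intro w hw hwa hwt
    obtain ⟨e, he, ee⟩ := code w (B.J_cA hw) hwt (hcube _ (J_cube hw))
    refine ⟨e, PCode.mem_lThree.2 ⟨he, fun e0 => hyv w hw hwa ?_, (F.one_iff (PSp43Rec.powC_lt he 3)).1 ?_⟩, ee⟩
    · rw [← ee, e0, F.f_zero]; rfl
    · rw [F.f_powC he]
      refine Subtype.ext ?_
      show ((F.f e : ↥X0) : XQ A) ^ 3 = 1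
      rw [ee, ← QuotientGroup.mk_pow, show (⟨w, B.J_cA hw⟩ : ↥(cA A)) ^ 3 = 1 from Subtype.ext (by
        show w ^ 3 = 1
        rw [pow_succ, pow_two, J_cube hw]), QuotientGroup.mk_one]
  obtain ⟨ez, hez, eze⟩ := three z hzJ hnot.1 (mem_centralizer_singleton_iff.1 (t_cent D 0)).symm
  obtain ⟨ey, hey, eye⟩ := three (D.pt 1) hyJ hnot.2 (pt_comm_t D 1).symm
  -- the roots of `t`
  have four : ∀ (r : G) (hr : r ∈ cA A), Commute r t → r * r = t → (QuotientGroup.mk ⟨r, hr⟩ : XQ A) ∈ X0 →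
      ∀ (w : G) (hw : w ∈ D.F.J) (e : ℕ), e ∈ PCode.lThree →
      ((F.f e : ↥X0) : XQ A) = QuotientGroup.mk ⟨w, B.J_cA hw⟩ → ¬ Commute r (w * r * w⁻¹) →
      ∃ x, x ∈ PCode.lFour ∧ PCode.inO x = true ∧ ((F.f x : ↥X0) : XQ A) = QuotientGroup.mk ⟨r, hr⟩ := by
    intro r hr hrt hrr hrX w hw e he ee hnc
    obtain ⟨x, hx', ex⟩ := code r hr hrt hrX
    have hxm : x ∈ PCode.lFour := PCode.mem_lFour.2 ⟨hx', F.inj _ _ (PSp43Rec.mulC_lt hx' hx') (by norm_num) (by
      rw [F.hmul _ _ hx' hx', F.h24]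
      refine Subtype.ext ?_
      show ((F.f x : ↥X0) : XQ A) * ((F.f x : ↥X0) : XQ A) = B.tX
      rw [ex, ← QuotientGroup.mk_mul]
      exact congrArg QuotientGroup.mk (Subtype.ext hrr))⟩
    have he' := (PCode.mem_lThree.1 he).1
    have hmem : w * r * w⁻¹ ∈ cA A := mul_mem (mul_mem (B.J_cA hw) hr) (inv_mem (B.J_cA hw))
    refine ⟨x, hxm, PCode.four_inO x hxm e he ?_, ex⟩
    by_contra hne
    refine hnc (B.comm_lift hr hmem ?_ ((hcomC hr hmem hx' (PSp43Rec.cnj_lt he' hx') ex ?_).2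
      (Bool.of_not_eq_false hne)))
    · have hr4 : r ^ 4 = 1 := pow_four_one D hrr
      rw [conj_pow, hr4, mul_one, mul_inv_cancel]
    · rw [F.f_cnj he' hx']
      show ((F.f e : ↥X0) : XQ A) * ((F.f x : ↥X0) : XQ A) * ((F.f e : ↥X0) : XQ A)⁻¹ = _
      rw [ee, ex, ← QuotientGroup.mk_inv, ← QuotientGroup.mk_mul, ← QuotientGroup.mk_mul]
      rfl
  -- a member of the second group in `X0` commutes with the first group
  have main : ∀ (s : G) (hs : s ∈ Rq D 1), (QuotientGroup.mk ⟨s, B.R1_cA H hs⟩ : XQ A) ∈ X0 → s ≠ 1 → s ≠ t →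
      ∀ r ∈ D.R 0, Commute r s := by
    intro s hs hsX hs1 hst' r hr
    by_cases hr1 : r = 1
    · subst hr1; exact Commute.one_left s
    by_cases hrt : r = t
    · subst hrt; exact (hst s hs).symm
    have hrr : r * r = t := by
      rcases (cover_R D 0).1.sq r hr with e | e
      · rcases (cover_R D 0).2.2.2.1 r hr e with e' | e'
        exacts [absurd e' hr1, absurd e' hrt]
      · exact e
    obtain ⟨x, hx', hxO, ex⟩ := four r (B.R0_cA H hr) (tR D hr) hrr (hR0X hr) _ hyJ ey hey eye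
      (R0_moved H hr hr1 hrt)
    obtain ⟨y, hy', hyO, ey'⟩ := four s (B.R1_cA H hs) (hst s hs) (hs4 s hs hs1 hst') hsX _ hzJ ez hez eze
      (R1_moved H hs hs1 hst')
    have hx576 := (PCode.mem_lFour.1 hx').1
    have hy576 := (PCode.mem_lFour.1 hy').1
    have cxz : PSp43Rec.comC x ez = true := (hcomC (B.R0_cA H hr) (B.J_cA hzJ) hx576 (PCode.mem_lThree.1 hez).1
      ex eze).1 (congrArg QuotientGroup.mk (Subtype.ext (mem_centralizer_singleton_iff.1 (D.R_le 0 hr)) :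
        (⟨r, B.R0_cA H hr⟩ * ⟨z, B.J_cA hzJ⟩ : ↥(cA A)) = _))
    have cyy : PSp43Rec.comC y ey = true := (hcomC (B.R1_cA H hs) (B.J_cA hyJ) hy576 (PCode.mem_lThree.1 hey).1
      ey' eye).1 (congrArg QuotientGroup.mk (Subtype.ext (mem_centralizer_singleton_iff.1 (Rq_le D 1 hs).2) :
        (⟨s, B.R1_cA H hs⟩ * ⟨D.pt 1, B.J_cA hyJ⟩ : ↥(cA A)) = _))
    have cyz : ¬ PSp43Rec.comC y ez = true := fun hc => by
      have h1 := (hcomC (B.R1_cA H hs) (B.J_cA hzJ) hy576 (PCode.mem_lThree.1 hez).1 ey' eze).2 hc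
      have h4 : s ^ 4 = 1 := pow_four_one D (hs4 s hs hs1 hst')
      have h2 : Commute s z := (B.comm_lift (B.J_cA hzJ) (B.R1_cA H hs) h4 h1.symm).symm
      rcases free_all D H (by decide : (1 : Fin 4) ≠ 0) hs (by rw [pt_zero]; exact h2) with e | e
      exacts [hs1 e, hst' e]
    have hcomm : PSp43Rec.comC x y = true := by
      rcases PCode.side x hx' ez hez hxO cxz with ⟨hxL, hall⟩ | ⟨hxR, hall⟩
      · rcases PCode.side y hy' ey hey hyO cyy with ⟨hyL, -⟩ | ⟨hyR, -⟩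
        · exact absurd (hall y hy576 hyL) cyz
        · exact PCode.sides_comm x hx576 y hy576 hxL hyR
      · rcases PCode.side y hy' ey hey hyO cyy with ⟨hyL, -⟩ | ⟨hyR, -⟩
        · have := PCode.sides_comm y hy576 x hx576 hyL hxR
          rw [← F.commute_iff hy576 hx576] at this
          exact (F.commute_iff hx576 hy576).1 this.symm
        · exact absurd (hall y hy576 hyR) cyz
    exact B.comm_lift (B.R0_cA H hr) (B.R1_cA H hs)
      (pow_four_one D (hs4 s hs hs1 hst'))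
      ((hcomC (B.R0_cA H hr) (B.R1_cA H hs) hx576 hy576 ex ey').2 hcomm)
  -- two such members generate
  intro r hr s hs
  by_cases hs1 : s = 1
  · subst hs1; exact Commute.one_right r
  by_cases hst' : s = t
  · subst hst'; exact tR D hr
  set u := s * z * s⁻¹ * z⁻¹ with hu
  have hzs : s * z * s⁻¹ * z⁻¹ ∈ Rq D 1 := by
    have := mul_mem hs ((mem_normalizer_iff.1 hzy _).1 (inv_mem hs))
    rwa [show s * (z * s⁻¹ * z⁻¹) = s * z * s⁻¹ * z⁻¹ by group] at this
  have huX : (QuotientGroup.mk ⟨u, B.R1_cA H hzs⟩ : XQ A) ∈ X0 := by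
    have h1 : s * z * s⁻¹ ∈ cA A := mul_mem (mul_mem (B.R1_cA H hs) B.z_cA) (inv_mem (B.R1_cA H hs))
    have hz3 : z * z * z = 1 := J_cube hzJ
    have := mul_mem (hcube h1 (by rw [conj_mul, conj_mul, hz3, mul_one, mul_inv_cancel]))
      (inv_mem (hcube B.z_cA hz3))
    rwa [← QuotientGroup.mk_inv, ← QuotientGroup.mk_mul] at this
  have hu1 : u ≠ 1 ∧ u ≠ t := by
    have hzt : Commute z t := (mem_centralizer_singleton_iff.1 (t_cent D 0)).symm
    refine ⟨fun e => ?_, fun e => ?_⟩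
    · rcases free_all D H (by decide : (1 : Fin 4) ≠ 0) hs
        (by rw [pt_zero]; exact mul_inv_eq_iff_eq_mul.1 (mul_inv_eq_one.1 e)) with e' | e'
      exacts [hs1 e', hst' e']
    · -- then `z` would invert a coset of order two
      have e1 : s * z * s⁻¹ = z * t := by
        have h := mul_inv_eq_iff_eq_mul.1 (hu ▸ e : s * z * s⁻¹ * z⁻¹ = t)
        rw [h, hzt.eq]
      have hz3 : z * z * z = 1 := J_cube hzJ
      have e2 : (s * z * s⁻¹) * (s * z * s⁻¹) * (s * z * s⁻¹) = 1 := by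
        rw [conj_mul, conj_mul, hz3, mul_one, mul_inv_cancel]
      rw [e1] at e2
      refine t_ne D 0 ?_
      rw [← pow_two, ← pow_succ, hzt.mul_pow, pow_succ, pow_two, hz3, one_mul, pow_succ, pow_two, t_sq D 0,
        one_mul] at e2
      exact e2
  set u' := z * u * z⁻¹
  have hu' : u' ∈ Rq D 1 := (mem_normalizer_iff.1 hzy u).1 hzs
  have hu'X : (QuotientGroup.mk ⟨u', B.R1_cA H hu'⟩ : XQ A) ∈ X0 := by
    have hz3 : z * z * z = 1 := J_cube hzJ
    have := mul_mem (mul_mem (hcube B.z_cA hz3) huX) (inv_mem (hcube B.z_cA hz3))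
    rwa [← QuotientGroup.mk_inv, ← QuotientGroup.mk_mul, ← QuotientGroup.mk_mul] at this
  set C := Rq D 1 ⊓ centralizer (D.R 0 : Set G)
  have huC : u ∈ C := ⟨hzs, mem_centralizer_iff.2 fun r hr => (main u hzs huX hu1.1 hu1.2 r hr).eq⟩
  have hu'C : u' ∈ C := by
    refine ⟨hu', mem_centralizer_iff.2 fun r hr => ?_⟩
    have hzN : z ∈ normalizer (D.R 0 : Set G) :=
      norm_R0 D H ⟨mem_centralizer_singleton_iff.2 (mem_centralizer_singleton_iff.1 (t_cent D 0)).symm,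
        mem_centralizer_singleton_iff.2 rfl⟩
    have hr' : z⁻¹ * r * z ∈ D.R 0 := by
      have := (mem_normalizer_iff.1 (inv_mem hzN) r).1 hr
      rwa [inv_inv] at this
    calc r * (z * u * z⁻¹) = z * (z⁻¹ * r * z * u) * z⁻¹ := by group
      _ = z * (u * (z⁻¹ * r * z)) * z⁻¹ := by rw [mem_centralizer_iff.1 huC.2 _ hr']
      _ = z * u * z⁻¹ * r := by group
  have hcardR : Nat.card ↥(Rq D 1) = 8 := by rw [Rq, cj_card]; exact (cover_R D 0).2.1
  have hle : Rq D 1 ≤ C := by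
    have hdvd : Nat.card ↥C ∣ 2 ^ 3 := by
      rw [show 2 ^ 3 = Nat.card ↥(Rq D 1) by rw [hcardR]; norm_num]; exact card_dvd_of_le inf_le_left
    obtain ⟨k, hk3, hk⟩ := (Nat.dvd_prime_pow Nat.prime_two).1 hdvd
    refine (eq_of_le_of_card_ge inf_le_left ?_).ge
    rw [hcardR, hk]
    rcases (show k ≤ 2 ∨ k = 3 by omega) with hk2 | rfl
    · exfalso
      haveI : Fact (Nat.Prime 2) := ⟨Nat.prime_two⟩
      have hcom : ∀ a b : ↥C, a * b = b * a := by
        rcases (show k = 0 ∨ k = 1 ∨ k = 2 by omega) with rfl | rfl | rfl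
        · haveI : Subsingleton ↥C := (Nat.card_eq_one_iff_unique.1 (by simpa using hk)).1
          exact fun a b => Subsingleton.elim _ _
        · haveI : IsCyclic ↥C := isCyclic_of_prime_card (p := 2) (by simpa using hk)
          exact fun a b => IsCyclic.commGroup.mul_comm a b
        · exact IsPGroup.commutative_of_card_eq_prime_sq hk
      refine R1_moved H hzs hu1.1 hu1.2 ?_
      exact congrArg Subtype.val (hcom ⟨u, huC⟩ ⟨u', hu'C⟩)
    · norm_num
  exact mem_centralizer_iff.1 (hle hs).2 r hr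

end Cfsg.Agent.U62Three.K
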