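import Cfsg.Agent.U62Three.K.P.Base
import Cfsg.Agent.Sp6Local.CoordX
import Mathlib.GroupTheory.SchurZassenhaus

/-!
# `C(A)/A` satisfies the hypotheses of the recognition of `PSp(4,3)`
-/

set_option autoImplicit false
set_option linter.unusedSectionVars false

open Subgroup

namespace Cfsg.Agent.U62Three.K

universe u

variable {G : Type u} [Group G] [Finite G] {z : G} {Q : Subgroup G} {D : Facts z Q} {A : Subgroup G}

/-- The centraliser of `A`. -/
abbrev cA (A : Subgroup G) : Subgroup G := centralizer (A : Set G)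

/-- The subgroup `A` in its centraliser, as a central subgroup. -/
def aC (A : Subgroup G) : Subgroup ↥(cA A) := A.subgroupOf (cA A)

instance aC_normal (A : Subgroup G) : (aC A).Normal := ⟨fun x hx g => by
  have h : (g : G) * (x : G) = (x : G) * (g : G) := (mem_centralizer_iff.1 g.2 (x : G) hx).symm
  have e : g * x * g⁻¹ = x := Subtype.ext (by push_cast; rw [h, mul_inv_cancel_right])
  rw [e]; exact hx⟩

/-- The quotient. -/
abbrev XQ (A : Subgroup G) : Type u := ↥(cA A) ⧸ aC A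

/-- The image of a subgroup of `G`. -/
def img (A S : Subgroup G) : Subgroup (XQ A) := (S.subgroupOf (cA A)).map (QuotientGroup.mk' (aC A))

theorem pmk_eq {g h : ↥(cA A)} :
    (QuotientGroup.mk g : XQ A) = QuotientGroup.mk h ↔ (g : G)⁻¹ * (h : G) ∈ A :=
  QuotientGroup.eq

theorem pmk_one {g : ↥(cA A)} : (QuotientGroup.mk g : XQ A) = 1 ↔ (g : G) ∈ A :=
  QuotientGroup.eq_one_iff g

theorem mem_img {S : Subgroup G} {x : XQ A} :
    x ∈ img A S ↔ ∃ g : ↥(cA A), (g : G) ∈ S ∧ QuotientGroup.mk g = x := Iff.rfl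

theorem card_img {S : Subgroup G} (hS : S ≤ cA A) (hSA : ∀ x ∈ S, x ∈ A → x = 1) :
    Nat.card ↥(img A S) = Nat.card ↥S := by
  refine (Nat.card_eq_of_bijective (fun s : ↥S => (⟨QuotientGroup.mk ⟨s, hS s.2⟩, ⟨s, hS s.2⟩, s.2, rfl⟩ :
    ↥(img A S))) ⟨fun s s' e => ?_, ?_⟩).symm
  · have h := hSA _ (mul_mem (inv_mem s.2) s'.2) (pmk_eq.1 (congrArg Subtype.val e))
    exact Subtype.ext (inv_mul_eq_one.1 h)
  · rintro ⟨x, g, hg, rfl⟩
    exact ⟨⟨g, hg⟩, rfl⟩

variable (B : Base D A)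
include B

theorem Base.z_cA : z ∈ cA A := mem_centralizer_iff.2 fun _ hx => (B.comm_z hx).symm.eq

theorem Base.J_cA : D.F.J ≤ cA A := fun _ hw =>
  mem_centralizer_iff.2 fun _ hx => (mem_centralizer_iff.1 (B.le hx) _ hw).symm

theorem Base.Qi0_cA : D.Qi 0 ≤ cA A := fun _ hw =>
  mem_centralizer_iff.2 fun _ hx => (mem_centralizer_iff.1 (B.blk hx) _ hw).symm

theorem Base.R0_cA (H : Hyp z Q) : D.R 0 ≤ cA A := fun _ hr =>
  mem_centralizer_iff.2 fun _ hx => (B.comm_R0 H hx hr).eq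

theorem Base.A_cA : A ≤ cA A := fun _ hw => mem_centralizer_iff.2 fun _ hx => (B.comm _ hx _ hw).eq

/-- The image of `z`. -/
def Base.zX : XQ A := QuotientGroup.mk ⟨z, B.z_cA⟩

theorem Base.order_zX (H : Hyp z Q) : orderOf B.zX = 3 := by
  haveI : Fact (Nat.Prime 3) := ⟨Nat.prime_three⟩
  refine orderOf_eq_prime ?_ fun e => B.z_notMem H (pmk_one.1 e)
  show (QuotientGroup.mk ⟨z, B.z_cA⟩ : XQ A) ^ 3 = 1
  rw [← QuotientGroup.mk_pow, pmk_one]
  show z ^ 3 ∈ A
  rw [z_cube H]; exact one_mem A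

/-- The centraliser of the image of `z` is the image of the centraliser of `z`. -/
theorem Base.mem_cent_zX (H : Hyp z Q) {g : ↥(cA A)} :
    (QuotientGroup.mk g : XQ A) ∈ centralizer ({B.zX} : Set (XQ A)) ↔ Commute (g : G) z := by
  rw [mem_centralizer_singleton_iff]
  constructor
  · intro h
    refine mul_inv_eq_iff_eq_mul.1 (B.coset H (Or.inl rfl) ?_)
    have h' : (QuotientGroup.mk (g * ⟨z, B.z_cA⟩ * g⁻¹) : XQ A) = QuotientGroup.mk ⟨z, B.z_cA⟩ := by
      rw [QuotientGroup.mk_mul, QuotientGroup.mk_mul, QuotientGroup.mk_inv]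
      exact mul_inv_eq_iff_eq_mul.2 h
    have h2 := pmk_eq.1 h'.symm
    exact h2
  · intro h
    show (QuotientGroup.mk g : XQ A) * QuotientGroup.mk ⟨z, B.z_cA⟩ = _
    rw [← QuotientGroup.mk_mul, show g * ⟨z, B.z_cA⟩ = ⟨z, B.z_cA⟩ * g from Subtype.ext h.eq,
      QuotientGroup.mk_mul]
    rfl

omit B in
theorem y0_act (H : Hyp z Q) :
    ¬ ∀ x ∈ D.Qi 0, D.F.j 0 3 * D.F.j 1 3 * x * (D.F.j 0 3 * D.F.j 1 3)⁻¹ * x⁻¹ ∈ zpowers z := by
  intro h
  set y := D.F.j 0 3 * D.F.j 1 3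
  have hyJ : y ∈ D.F.J := mul_mem (j_mem D.F _ _) (j_mem D.F _ _)
  have hyt : Commute y (D.t 0) := by
    have e : D.t 0 * y * (D.t 0)⁻¹ = y := by
      show D.t 0 * (D.F.j 0 3 * D.F.j 1 3) * (D.t 0)⁻¹ = D.F.j 0 3 * D.F.j 1 3
      rw [← conj_mul, D.t_zero, D.t_zero]
      exact frame_commute (j_mem D.F _ _) (j_mem D.F _ _)
    exact (mul_inv_eq_iff_eq_mul.1 e).symm
  have hyz : y ∈ centralizer ({z} : Set G) :=
    mem_centralizer_singleton_iff.2 (frame_commute hyJ (zpow_z_J D (mem_zpowers z))).eq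
  obtain ⟨p, hp, q, hq, hpq⟩ := (cover_R D 0).2.2.1
  have hall : ∀ r ∈ D.R 0, Commute r y := by
    intro r hr
    have hn : y * r * y⁻¹ ∈ D.R 0 :=
      (mem_normalizer_iff.1 (norm_R0 D H ⟨mem_centralizer_singleton_iff.2 hyt.eq, hyz⟩) r).1 hr
    obtain ⟨w, hw, hwz⟩ := block_ne D 0
    refine (mul_inv_eq_iff_eq_mul.1 (mul_inv_eq_one.1 (D.faith 0 _ (mul_mem hn (inv_mem hr)) w hw hwz ?_))).symm
    -- both factors act trivially modulo the centre
    have hr' : r⁻¹ * w * r ∈ D.Qi 0 := by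
      have := (mem_normalizer_iff.1 (inv_mem (D.R_norm 0 0 hr)) w).1 hw
      rwa [inv_inv] at this
    have hy' : y⁻¹ * (r⁻¹ * w * r) * y * (r⁻¹ * w * r)⁻¹ ∈ zpowers z := by
      have hQ0 : y⁻¹ * (r⁻¹ * w * r) * y ∈ D.Qi 0 := by
        have hfix := fix_blocks D (inv_mem hyz) hyt.inv_left 0 (r⁻¹ * w * r)
        have := hfix.1 hr'
        rwa [inv_inv] at this
      have h1 := h _ hQ0
      have : y⁻¹ * (r⁻¹ * w * r) * y * (r⁻¹ * w * r)⁻¹ = ((r⁻¹ * w * r) * (y⁻¹ * (r⁻¹ * w * r) * y)⁻¹)⁻¹ := by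
        group
      rw [this]
      refine inv_mem ?_
      rwa [show y * (y⁻¹ * (r⁻¹ * w * r) * y) * y⁻¹ = r⁻¹ * w * r by group] at h1
    set s := y⁻¹ * (r⁻¹ * w * r) * y * (r⁻¹ * w * r)⁻¹
    have hsw : y * r * y⁻¹ * r⁻¹ * w * (y * r * y⁻¹ * r⁻¹)⁻¹ * w⁻¹ =
        y * (r * s * r⁻¹) * y⁻¹ * (y * w * y⁻¹ * w⁻¹) := by simp only [s]; group
    rw [hsw, conj_zpow (D.R_le 0 hr) hy', conj_zpow hyz hy']
    exact mul_mem hy' (h w hw)
  rcases free_zero D H hp (hall p hp) with e | e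
  · exact hpq (by rw [e, one_mul, mul_one])
  · exact hpq (by rw [e]; exact ((cover_R D 0).1.central q hq).eq.symm)

/-- An element of `C(A) ∩ C(z)` fixes the blocks. -/
theorem Base.blk_of_cent (H : Hyp z Q) {g : G} (hgA : g ∈ cA A) (hgz : Commute g z) : g ∈ blk0 D := by
  have hgC : g ∈ centralizer ({z} : Set G) := mem_centralizer_singleton_iff.2 hgz.eq
  refine (mem_blk0 D).2 ⟨hgC, ?_⟩
  obtain ⟨l, hl⟩ := D.perm g hgC 0
  rcases eq_or_ne l 0 with rfl | hl0
  · exact hl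
  exfalso
  have hl1 : l = 1 := by fin_cases l <;> [exact absurd rfl hl0; rfl]
  subst hl1
  have ha : g * ra D * g⁻¹ = ra D := by
    rw [← mem_centralizer_iff.1 hgA _ B.mem, mul_inv_cancel_right]
  have h := (hl (ra D)).2 (by rw [ha]; exact D.j_one.2)
  exact j_not_z D H 4 5 (by decide) (D.centre 0 _ h fun w hw => (D.comm 0 1 (by decide) w hw _ D.j_one.2).symm)

/-- The kernel of the action on the first block. -/
theorem Base.kernel_act (H : Hyp z Q) {g : G} (hgA : g ∈ cA A) (hgz : Commute g z)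
    (h : ∀ x ∈ D.Qi 0, g * x * g⁻¹ * x⁻¹ ∈ zpowers z) : ∃ q ∈ D.Qi 0, q⁻¹ * g ∈ A := by
  have hgC : g ∈ centralizer ({z} : Set G) := mem_centralizer_singleton_iff.2 hgz.eq
  have hblk := B.blk_of_cent H hgA hgz
  have hblocks : ∀ i w, w ∈ D.Qi i ↔ g * w * g⁻¹ ∈ D.Qi i := by
    intro i
    fin_cases i
    · exact hblk.2
    · obtain ⟨l, hl⟩ := D.perm g hgC 1
      have hl1 : l = 1 := by
        fin_cases l
        · exfalso
          have ha : g * ra D * g⁻¹ = ra D := by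
            rw [← mem_centralizer_iff.1 hgA _ B.mem, mul_inv_cancel_right]
          have h := (hl (ra D)).1 D.j_one.2
          rw [ha] at h
          exact j_not_z D H 4 5 (by decide)
            (D.centre 0 _ h fun w hw => (D.comm 0 1 (by decide) w hw _ D.j_one.2).symm)
        · rfl
      subst hl1
      exact hl
  have hga : g * ra D * g⁻¹ = ra D := by rw [← mem_centralizer_iff.1 hgA _ B.mem, mul_inv_cancel_right]
  have hnJ : g ∈ normalizer (D.F.J : Set G) := by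
    refine normJ_of_lines D H hgC hblocks ?_ ?_
    · have := mul_mem (mem_sup_left (T := zpowers (D.F.j 0 1)) (h _ D.j_zero.1))
        (mem_sup_right (mem_zpowers (D.F.j 0 1)))
      rwa [inv_mul_cancel_right] at this
    · have h1 := cent_in_block D H D.j_one.2 (j_not_z D H 4 5 (by decide)) D.j_one.1
        (frame_commute (j_mem D.F _ _) (j_mem D.F _ _))
      have h2 := cent_in_block D H D.j_one.1 (j_not_z D H 3 4 (by decide)) D.j_one.2
        (frame_commute (j_mem D.F _ _) (j_mem D.F _ _))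
      have hle : zpowers z ⊔ zpowers (ra D) ≤ centralizer ({g} : Set G) := sup_le
        (zpowers_le.2 (mem_centralizer_singleton_iff.2 hgz.symm.eq))
        (zpowers_le.2 (mem_centralizer_singleton_iff.2 (mul_inv_eq_iff_eq_mul.1 hga).symm))
      rw [← mem_centralizer_singleton_iff.1 (hle h1), mul_inv_cancel_right]
      exact mem_sup_right (mem_zpowers _)
  -- the permutation of an element of this kind is a power of the cycle of the first three places
  let c3 : Equiv.Perm (Fin 6) := Equiv.swap 0 1 * Equiv.swap 1 2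
  have hperm : ∀ x ∈ normalizer (D.F.J : Set G), x * z * x⁻¹ = z → x * ra D * x⁻¹ = ra D →
      x * D.F.j 0 1 * x⁻¹ * (D.F.j 0 1)⁻¹ ∈ zpowers z →
      ∃ σ : Equiv.Perm (Fin 6), (∀ a b, x * D.F.j a b * x⁻¹ = D.F.j (σ a) (σ b)) ∧
        ∃ k : Fin 3, σ = c3 ^ k.val := by
    intro x hx hxz hxa hxj
    obtain ⟨σ, hσ⟩ := D.mono x hx
    have hz : z = el D.F (vd 0 1 + vd 2 1) := by rw [← el_mul, el_vd, el_vd]; exact D.F.hz
    have key : ∀ σ : Equiv.Perm (Fin 6),
        wsum (vd (σ 0) (σ 1) + vd (σ 2) (σ 1)) = 0 ∧ wsum (vd (σ 1) (σ 0) + vd (σ 1) (σ 2)) = 0 ∧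
        (σ 4 = 4 → σ 5 = 5 → Same (vd (σ 0) (σ 1) + vd (σ 2) (σ 1)) (vd 0 1 + vd 2 1) →
          (∃ i : Fin 3, Same (vd (σ 0) (σ 1)) (i.val • (vd 0 1 + vd 2 1) + vd 0 1)) →
            ∃ k : Fin 3, σ = c3 ^ k.val) ∧
        (σ 4 = 5 → σ 5 = 4 → ¬ Same (vd (σ 1) (σ 0) + vd (σ 1) (σ 2)) (vd 0 1 + vd 2 1)) := by
      decide +kernel
    obtain ⟨k1, k2, k3, k4⟩ := key σ
    rcases hσ with hσ | hσ
    · refine ⟨σ, hσ, k3 ?_ ?_ ?_ ?_⟩
      · rw [ra, hσ] at hxa; exact (j_inj D.F (by decide) hxa.symm).1.symm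
      · rw [ra, hσ] at hxa; exact (j_inj D.F (by decide) hxa.symm).2.symm
      · refine (el_eq_iff D.F k1 (by decide +kernel)).1 ?_
        rw [← hz, ← el_mul, el_vd, el_vd, ← hσ, ← hσ, conj_mul, ← D.F.hz, hxz]
      · obtain ⟨a, ha⟩ := zpow_val H hxj
        have hw : ∀ i : Fin 3, wsum (i.val • (vd 0 1 + vd 2 1) + vd 0 1) = 0 := by decide +kernel
        have hw' : wsum (vd (σ 0) (σ 1)) = 0 :=
          (by decide +kernel : ∀ p r : Fin 6, wsum (vd p r) = 0) _ _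
        refine ⟨⟨a.val, a.val_lt⟩, (el_eq_iff D.F hw' (hw _)).1 ?_⟩
        rw [el_vd, ← hσ, ← el_mul, ← el_pow, ← hz, el_vd, ← ha, inv_mul_cancel_right]
    · exfalso
      rw [ra, hσ] at hxa
      obtain ⟨e5, e4⟩ := j_inj D.F (by decide) hxa.symm
      refine k4 e4.symm e5.symm ((el_eq_iff D.F k2 (by decide +kernel)).1 ?_)
      rw [← hz, ← el_mul, el_vd, el_vd, ← hσ, ← hσ, conj_mul, ← D.F.hz, hxz]
  obtain ⟨σ, hσ, k, hk⟩ := hperm g hnJ (by rw [hgz.eq, mul_inv_cancel_right]) hga (h _ D.j_zero.1)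
  obtain ⟨x, hx, hxJ⟩ : ∃ x ∈ D.Qi 0, x ∉ D.F.J := by
    by_contra hh
    push Not at hh
    obtain ⟨w, hw, hwz⟩ := block_ne D 0
    exact hwz (D.centre 0 w hw fun v hv => frame_commute (hh w hw) (hh v hv))
  have hxz : x * z * x⁻¹ = z := by rw [(z_comm_Q H (D.le 0 hx)).symm.eq, mul_inv_cancel_right]
  obtain ⟨τ, hτ, l, hl⟩ := hperm x (Qi0_normJ H hx) hxz
    (by rw [ra, (D.comm 0 1 (by decide) x hx _ D.j_one.2).eq, mul_inv_cancel_right])
    (comm_mem_z H (D.le 0 hx) (D.le 0 D.j_zero.1))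
  have hl0 : l ≠ 0 := by
    rintro rfl
    refine hxJ ?_
    have hc : Commute x (D.F.j 0 1) := mul_inv_eq_iff_eq_mul.1 (by rw [hτ, hl]; rfl)
    exact sup_le (zpow_z_J D) (zpowers_le.2 (j_mem D.F _ _))
      (cent_in_block D H D.j_zero.1 (j_not_z D H 0 1 (by decide)) hx hc.symm)
  obtain ⟨i, hi⟩ : ∃ i : Fin 3, (c3 ^ l.val) ^ i.val = c3 ^ k.val := by
    have : ∀ l k : Fin 3, l ≠ 0 → ∃ i : Fin 3, (c3 ^ l.val) ^ i.val = c3 ^ k.val := by decide +kernel
    exact this l k hl0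
  have hpw : ∀ n : ℕ, ∀ a b, x ^ n * D.F.j a b * (x ^ n)⁻¹ = D.F.j ((τ ^ n) a) ((τ ^ n) b) := by
    intro n
    induction n with
    | zero => intro a b; simp
    | succ n ih =>
      intro a b
      rw [pow_succ', show x * x ^ n * D.F.j a b * (x * x ^ n)⁻¹ = x * (x ^ n * D.F.j a b * (x ^ n)⁻¹) * x⁻¹ by
        group, ih, hτ, pow_succ']
      rfl
  set q := x ^ i.val
  have hq : q ∈ D.Qi 0 := pow_mem hx _
  have hcC : q⁻¹ * g ∈ centralizer (D.F.J : Set G) := by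
    have hle : D.F.J ≤ centralizer ({q⁻¹ * g} : Set G) := by
      conv_lhs => rw [D.F.span]
      rw [closure_le]
      rintro _ ⟨⟨a, b⟩, rfl⟩
      refine mem_centralizer_singleton_iff.2 (mul_inv_eq_iff_eq_mul.1 ?_).symm
      calc q⁻¹ * g * D.F.j a b * (q⁻¹ * g)⁻¹ = q⁻¹ * (g * D.F.j a b * g⁻¹) * q := by group
        _ = D.F.j a b := by
          have := hpw i.val a b
          rw [hl, hi, ← hk] at this
          rw [hσ, ← this]; simp only [q]; group
    exact mem_centralizer_iff.2 fun v hv => mem_centralizer_singleton_iff.1 (hle hv)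
  have hJA : ∀ {c : G}, c ∈ centralizer (D.F.J : Set G) → ∃ w ∈ D.F.J, ∃ b ∈ A, c = w * b := by
    intro c hc
    have hn : D.F.J ≤ normalizer (A : Set G) := fun w hw => centralizer_le_normalizer _ (B.J_cA hw)
    have hc' : c ∈ (↑(D.F.J ⊔ A) : Set G) := B.span hc
    rw [coe_mul_of_left_le_normalizer_right _ _ hn] at hc'
    obtain ⟨w, hw, b, hb, rfl⟩ := hc'
    exact ⟨w, hw, b, hb, rfl⟩
  obtain ⟨w, hw, b, hb, hwb⟩ := hJA hcC
  obtain ⟨v, hv, rfl⟩ := el_surj D.F hw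
  have key : ∀ v : V6, wsum v = 0 → ∃ a b c d : Fin 3, Same v (a.val • (vd 0 3 + vd 1 3) +
      b.val • (vd 0 1 + vd 2 1) + c.val • vd 0 1 + d.val • vd 4 5) ∧
      wsum (a.val • (vd 0 3 + vd 1 3) + b.val • (vd 0 1 + vd 2 1) + c.val • vd 0 1 + d.val • vd 4 5) = 0 := by
    decide +kernel
  obtain ⟨a', b', c', d', hs, hws⟩ := key v hv
  rw [(el_eq_iff D.F hv hws).2 hs, ← el_mul, ← el_mul, ← el_mul, ← el_pow, ← el_pow, ← el_pow, ← el_pow,
    ← el_mul, ← el_mul] at hwb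
  simp only [el_vd] at hwb
  rw [← D.F.hz] at hwb
  set y := D.F.j 0 3 * D.F.j 1 3
  set q2 := z ^ b'.val * D.F.j 0 1 ^ c'.val
  set a2 := ra D ^ d'.val * b
  have hq2 : q2 ∈ D.Qi 0 := mul_mem (pow_mem (D.z_mem 0) _) (pow_mem D.j_zero.1 _)
  have hyz : y ∈ centralizer ({z} : Set G) := mem_centralizer_singleton_iff.2
    (frame_commute (mul_mem (j_mem D.F _ _) (j_mem D.F _ _)) (zpow_z_J D (mem_zpowers z))).eq
  have hwb' : q⁻¹ * g = y ^ a'.val * q2 * a2 := by
    rw [hwb]; simp only [q2, a2, ra, mul_assoc]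
  refine ⟨q * q2, mul_mem hq hq2, ?_⟩
  suffices ha0 : a'.val = 0 by
    rw [mul_inv_rev, mul_assoc, hwb', ha0, pow_zero, one_mul, inv_mul_cancel_left]
    exact mul_mem (pow_mem B.mem _) hb
  by_contra ha0
  -- then `y` would act trivially
  refine y0_act (D := D) H fun u hu => ?_
  let S : Subgroup G :=
    { carrier := {m | m ∈ centralizer ({z} : Set G) ∧ (∀ u ∈ D.Qi 0, m * u * m⁻¹ * u⁻¹ ∈ zpowers z)}
      one_mem' := ⟨one_mem _, fun u _ => by simp⟩
      mul_mem' := fun {p p'} hp hp' => ⟨mul_mem hp.1 hp'.1, fun u hu => by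
        have e : p * p' * u * (p * p')⁻¹ * u⁻¹ = p * (p' * u * p'⁻¹ * u⁻¹) * p⁻¹ * (p * u * p⁻¹ * u⁻¹) := by group
        rw [e, conj_zpow hp.1 (hp'.2 u hu)]
        exact mul_mem (hp'.2 u hu) (hp.2 u hu)⟩
      inv_mem' := fun {p} hp => ⟨inv_mem hp.1, fun u hu => by
        have e : p⁻¹ * u * p⁻¹⁻¹ * u⁻¹ = p⁻¹ * (p * u * p⁻¹ * u⁻¹)⁻¹ * p⁻¹⁻¹ := by group
        rw [e, conj_zpow (inv_mem hp.1) (inv_mem (hp.2 u hu))]
        exact inv_mem (hp.2 u hu)⟩ }
  have hQS : D.Qi 0 ≤ S := fun m hm => ⟨H.le (D.le 0 hm), fun u hu => comm_mem_z H (D.le 0 hm) (D.le 0 hu)⟩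
  have hAS : A ≤ S := fun m hm => ⟨mem_centralizer_singleton_iff.2 (B.comm_z hm).symm.eq, fun u hu => by
    rw [← mem_centralizer_iff.1 (B.blk hm) u hu, mul_inv_cancel_right, mul_inv_cancel]; exact one_mem _⟩
  have hgS : g ∈ S := ⟨hgC, h⟩
  have hy' : y ^ a'.val ∈ S := by
    have e : y ^ a'.val = q⁻¹ * g * a2⁻¹ * q2⁻¹ := by rw [hwb']; group
    rw [e]
    exact mul_mem (mul_mem (mul_mem (inv_mem (hQS hq)) hgS)
      (inv_mem (hAS (mul_mem (pow_mem B.mem _) hb)))) (inv_mem (hQS hq2))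
  have hy3 : y ^ 3 = 1 := by
    rw [pow_succ, pow_two]; exact J_cube (mul_mem (j_mem D.F _ _) (j_mem D.F _ _))
  have hyS : y ∈ S := by
    rcases (show a'.val = 1 ∨ a'.val = 2 by omega) with e | e <;> rw [e] at hy'
    · rwa [pow_one] at hy'
    · have := pow_mem hy' 2
      rwa [← pow_mul, show 2 * 2 = 3 + 1 from rfl, pow_add, hy3, one_mul, pow_one] at this
  exact hyS.2 u hu

/-- The action on the block gives `SL(2,3)`. -/
theorem Base.projX (H : Hyp z Q) : ∃ f : centralizer ({B.zX} : Set (XQ A)) →* PSp43Amalgam.SL3,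
    Function.Surjective f ∧ ∀ g, f g = 1 ↔ (g : XQ A) ∈ img A (D.Qi 0) := by
  classical
  haveI : Fact (Nat.Prime 3) := ⟨Nat.prime_three⟩
  obtain ⟨f0, hf0⟩ := exists_act0 D H
  have hl : ∀ x : centralizer ({B.zX} : Set (XQ A)), ∃ g : blk0 D, ∃ hg : (g : G) ∈ cA A,
      (QuotientGroup.mk ⟨g, hg⟩ : XQ A) = x := by
    rintro ⟨x, hx⟩
    obtain ⟨g, rfl⟩ := QuotientGroup.mk_surjective x
    exact ⟨⟨g, B.blk_of_cent H g.2 ((B.mem_cent_zX H).1 hx)⟩, g.2, rfl⟩
  choose lift hlift hlift' using hl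
  have hwd : ∀ (g g' : blk0 D), (g : G)⁻¹ * (g' : G) ∈ A → f0 g = f0 g' := by
    intro g g' h
    have h1 : f0 (g⁻¹ * g') = 1 := (hf0 _).2 fun u hu => by
      show (g : G)⁻¹ * g' * u * ((g : G)⁻¹ * g')⁻¹ * u⁻¹ ∈ _
      rw [← mem_centralizer_iff.1 (B.blk h) u hu, mul_inv_cancel_right, mul_inv_cancel]
      exact one_mem _
    rwa [map_mul, map_inv, inv_mul_eq_one] at h1
  have heq : ∀ x (g : blk0 D) (hg : (g : G) ∈ cA A),
      (QuotientGroup.mk ⟨g, hg⟩ : XQ A) = (x : centralizer ({B.zX} : Set (XQ A))).1 → f0 (lift x) = f0 g :=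
    fun x g hg e => hwd _ _ (pmk_eq.1 ((hlift' x).trans e.symm))
  refine ⟨MonoidHom.mk' (fun x => f0 (lift x)) fun x x' => ?_, ?_, fun x => ?_⟩
  · refine (heq (x * x') (lift x * lift x') (mul_mem (hlift x) (hlift x')) ?_).trans (map_mul _ _ _)
    show (QuotientGroup.mk (⟨lift x, hlift x⟩ * ⟨lift x', hlift x'⟩ : ↥(cA A)) : XQ A) = x.1 * x'.1
    rw [QuotientGroup.mk_mul, hlift', hlift']
  · -- the range contains a quaternion group and an element of order three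
    set f : centralizer ({B.zX} : Set (XQ A)) →* PSp43Amalgam.SL3 :=
      MonoidHom.mk' (fun x => f0 (lift x)) _ with hf
    refine MonoidHom.range_eq_top.1 ?_
    have hin : ∀ (g : blk0 D), (g : G) ∈ cA A → Commute (g : G) z → f0 g ∈ f.range := fun g hg hgz =>
      ⟨⟨QuotientGroup.mk ⟨g, hg⟩, (B.mem_cent_zX H).2 hgz⟩, heq _ g hg rfl⟩
    have hRb : ∀ r ∈ D.R 0, r ∈ blk0 D := fun r hr =>
      B.blk_of_cent H (B.R0_cA H hr) (mem_centralizer_singleton_iff.1 (D.R_le 0 hr))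
    set y := D.F.j 0 3 * D.F.j 1 3
    have hyJ : y ∈ D.F.J := mul_mem (j_mem D.F _ _) (j_mem D.F _ _)
    have hyz : Commute y z := frame_commute hyJ (zpow_z_J D (mem_zpowers z))
    have hyb : y ∈ blk0 D := B.blk_of_cent H (B.J_cA hyJ) hyz
    let ρ : ↥(D.R 0) →* f.range := MonoidHom.mk'
      (fun r => ⟨f0 ⟨r, hRb r r.2⟩, hin _ (B.R0_cA H r.2) (mem_centralizer_singleton_iff.1 (D.R_le 0 r.2))⟩)
      fun r r' => Subtype.ext (by show f0 _ = f0 _ * f0 _; rw [← map_mul]; rfl)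
    have hρ : Function.Injective ρ := (injective_iff_map_eq_one ρ).2 fun r hr => by
      obtain ⟨w, hw, hwz⟩ := block_ne D 0
      exact Subtype.ext (D.faith 0 r r.2 w hw hwz ((hf0 _).1 (congrArg Subtype.val hr) w hw))
    have h8 : 8 ∣ Nat.card f.range := by
      rw [← (cover_R D 0).2.1, Nat.card_congr (MonoidHom.ofInjective hρ).toEquiv]
      exact card_subgroup_dvd_card _
    have h3 : 3 ∣ Nat.card f.range := by
      have ho : orderOf (⟨f0 ⟨y, hyb⟩, hin ⟨y, hyb⟩ (B.J_cA hyJ) hyz⟩ : f.range) = 3 := by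
        refine orderOf_eq_prime (Subtype.ext ?_) fun e => y0_act (D := D) H ((hf0 _).1 (congrArg Subtype.val e))
        show f0 ⟨y, hyb⟩ ^ 3 = 1
        rw [← map_pow, show (⟨y, hyb⟩ : blk0 D) ^ 3 = 1 from Subtype.ext (by
          show y ^ 3 = 1
          rw [pow_succ, pow_two]; exact J_cube hyJ), map_one]
      exact (dvd_of_eq ho.symm).trans (orderOf_dvd_natCard _)
    have h24 : Nat.card PSp43Amalgam.SL3 = 24 := by rw [Nat.card_eq_fintype_card]; decide +kernel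
    refine eq_top_of_le_card _ ?_
    rw [h24]
    exact Nat.le_of_dvd Nat.card_pos (Nat.Coprime.mul_dvd_of_dvd_of_dvd (by norm_num : Nat.Coprime 8 3) h8 h3)
  · constructor
    · intro hx
      have hx' : f0 (lift x) = 1 := hx
      have hgz : Commute (lift x : G) z :=
        mem_centralizer_singleton_iff.1 ((lift x).2).1
      obtain ⟨q, hq, hqA⟩ := B.kernel_act H (hlift x) hgz ((hf0 _).1 hx')
      exact ⟨⟨q, B.Qi0_cA hq⟩, hq, (pmk_eq.2 hqA).trans (hlift' x)⟩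
    · rintro ⟨g, hg, e⟩
      refine (heq x ⟨g, B.blk_of_cent H g.2 ((z_comm_Q H (D.le 0 hg)).symm)⟩ g.2 e).trans ((hf0 _).2 ?_)
      exact fun u hu => comm_mem_z H (D.le 0 hg) (D.le 0 hu)

/-- The hypotheses of the recognition for the quotient. -/
theorem Base.centHyp (H : Hyp z Q) : Sp6Local.CentHyp B.zX (img A (D.Qi 0)) (img A D.F.J) := by
  classical
  haveI : Fact (Nat.Prime 3) := ⟨Nat.prime_three⟩
  have hQA : ∀ x ∈ D.Qi 0, x ∈ A → x = 1 := fun x hx hxA => by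
    have hxz := D.centre 0 x hx fun w hw => (mem_centralizer_iff.1 (B.blk hxA) w hw).symm
    rcases zpow_cases H hxz with e | e | e
    · exact e
    · exact absurd (e ▸ hxA) (B.z_notMem H)
    · refine absurd ?_ (B.z_notMem H)
      have := pow_mem (e ▸ hxA : z ^ 2 ∈ A) 2
      rwa [← pow_mul, show 2 * 2 = 3 + 1 from rfl, pow_add, z_cube H, one_mul, pow_one] at this
  refine ⟨B.order_zX H, ?_, ?_, ?_, ?_, B.projX H, ?_, ?_, ?_, ?_, ?_⟩
  · rintro _ ⟨g, hg, rfl⟩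
    exact (B.mem_cent_zX H).2 (z_comm_Q H (D.le 0 hg)).symm
  · rw [card_img B.Qi0_cA hQA, D.cardQ]
  · rintro _ ⟨g, hg, rfl⟩
    show (QuotientGroup.mk g : XQ A) ^ 3 = 1
    rw [← QuotientGroup.mk_pow, show g ^ 3 = 1 from Subtype.ext (D.cube _ (D.le 0 hg)), QuotientGroup.mk_one]
  · intro r
    constructor
    · intro hr
      obtain ⟨m, rfl⟩ := mem_zpowers_iff.1 hr
      refine ⟨zpow_mem (show B.zX ∈ img A (D.Qi 0) from ⟨⟨z, B.z_cA⟩, D.z_mem 0, rfl⟩) m, ?_⟩
      rintro _ ⟨g, hg, rfl⟩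
      exact ((show Commute B.zX (QuotientGroup.mk g : XQ A) from
        (mem_centralizer_singleton_iff.1 ((B.mem_cent_zX H).2 (z_comm_Q H (D.le 0 hg)).symm)).symm).zpow_left m).eq
    · rintro ⟨⟨g, hg, rfl⟩, hc⟩
      have hgz : (g : G) ∈ zpowers z := D.centre 0 _ hg fun w hw => by
        have h1 := hc _ ⟨⟨w, B.Qi0_cA hw⟩, hw, rfl⟩
        have h2 : (QuotientGroup.mk (g * ⟨w, B.Qi0_cA hw⟩ * g⁻¹ * (⟨w, B.Qi0_cA hw⟩ : ↥(cA A))⁻¹) : XQ A) = 1 := by
          rw [QuotientGroup.mk_mul, QuotientGroup.mk_mul, QuotientGroup.mk_mul, QuotientGroup.mk_inv,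
            QuotientGroup.mk_inv]
          exact mul_inv_eq_one.2 (mul_inv_eq_iff_eq_mul.2 h1)
        have h3 : (g : G) * w * (g : G)⁻¹ * w⁻¹ ∈ A := pmk_one.1 h2
        exact mul_inv_eq_iff_eq_mul.1 (mul_inv_eq_one.1
          (hQA _ (mul_mem (mul_mem (mul_mem hg hw) (inv_mem hg)) (inv_mem hw)) h3))
      obtain ⟨m, hm⟩ := mem_zpowers_iff.1 hgz
      refine mem_zpowers_iff.2 ⟨m, ?_⟩
      show (QuotientGroup.mk ⟨z, B.z_cA⟩ : XQ A) ^ m = _
      rw [← QuotientGroup.mk_zpow]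
      exact congrArg _ (Subtype.ext hm)
  · rintro _ ⟨g, hg, rfl⟩
    exact (B.mem_cent_zX H).2 (frame_commute hg B.zJ)
  · rintro _ ⟨g, hg, rfl⟩ _ ⟨g', hg', rfl⟩
    show (QuotientGroup.mk g : XQ A) * QuotientGroup.mk g' = _
    rw [← QuotientGroup.mk_mul, show g * g' = g' * g from Subtype.ext (frame_commute hg hg').eq]
    rfl
  · rintro _ ⟨g, hg, rfl⟩
    show (QuotientGroup.mk g : XQ A) ^ 3 = 1
    rw [← QuotientGroup.mk_pow, show g ^ 3 = 1 from Subtype.ext (by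
      show (g : G) ^ 3 = 1
      rw [pow_succ, pow_two]; exact J_cube hg), QuotientGroup.mk_one]
  · -- `J` meets `A` in the line of the root
    set JC := D.F.J.subgroupOf (cA A)
    let f : ↥JC →* XQ A := (QuotientGroup.mk' (aC A)).comp JC.subtype
    have hr : f.range = img A D.F.J := by
      rw [img, MonoidHom.range_comp, range_subtype]
    have hk : Nat.card f.ker = 3 := by
      have hC : ∀ g : G, g ∈ zpowers (ra D) → g ∈ D.F.J ∧ g ∈ A := fun g hg =>
        ⟨zpowers_le.2 (j_mem D.F 4 5) hg, zpowers_le.2 B.mem hg⟩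
      have e : f.ker ≃ ↥(zpowers (ra D)) :=
        { toFun := fun x => ⟨x.1.1.1, B.inter ⟨x.1.2, pmk_one.1 (MonoidHom.mem_ker.1 x.2)⟩⟩
          invFun := fun g => ⟨⟨⟨g, B.A_cA (hC g g.2).2⟩, (hC g g.2).1⟩,
            MonoidHom.mem_ker.2 (pmk_one.2 (hC g g.2).2)⟩
          left_inv := fun x => rfl
          right_inv := fun g => rfl }
      rw [Nat.card_congr e, Nat.card_zpowers]
      exact orderOf_eq_prime (by rw [pow_succ, pow_two]; exact D.F.cube 4 5) (j_ne D.F (by decide))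
    have h1 := f.ker.card_eq_card_quotient_mul_card_subgroup
    rw [Nat.card_congr (QuotientGroup.quotientKerEquivRange f).toEquiv, hr, hk,
      Nat.card_congr (subgroupOfEquivOfLe B.J_cA).toEquiv, D.F.card] at h1
    omega
  · -- signalisers lift to the complements of the central subgroup `A`
    intro K hK hinv
    set K0 := K.comap (QuotientGroup.mk' (aC A))
    have hle : aC A ≤ K0 := fun x hx => by
      rw [Subgroup.mem_comap, QuotientGroup.mk'_apply, (QuotientGroup.eq_one_iff x).2 hx]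
      exact one_mem K
    set N := (aC A).subgroupOf K0
    haveI : N.Normal := inferInstance
    have hNidx : N.index = Nat.card K := by
      let φ : ↥K0 →* ↥K := ((QuotientGroup.mk' (aC A)).comp K0.subtype).codRestrict K fun x => x.2
      have hφ : Function.Surjective φ := fun ⟨x, hx⟩ => by
        obtain ⟨g, rfl⟩ := QuotientGroup.mk_surjective x
        exact ⟨⟨g, hx⟩, rfl⟩
      have hker : φ.ker = N := by
        ext x
        rw [MonoidHom.mem_ker, Subtype.ext_iff, mem_subgroupOf]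
        exact QuotientGroup.eq_one_iff _
      rw [← hker, index_ker, MonoidHom.range_eq_top.2 hφ, card_top]
    have hAp : IsPGroup 3 ↥A := fun x => ⟨1, Subtype.ext (by
      show (x : G) ^ 3 ^ 1 = 1
      rw [pow_one]; exact B.cube x x.2)⟩
    obtain ⟨n, hn⟩ := IsPGroup.iff_card.1 hAp
    have hNcard : Nat.card N = 3 ^ n := by
      rw [Nat.card_congr (subgroupOfEquivOfLe hle).toEquiv, aC,
        Nat.card_congr (subgroupOfEquivOfLe B.A_cA).toEquiv, hn]
    have hcop : Nat.Coprime (Nat.card N) N.index := by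
      rw [hNcard, hNidx]; exact Nat.Coprime.pow_left n hK.symm
    obtain ⟨C', hC'⟩ := exists_right_complement'_of_coprime hcop
    have hC'card : Nat.card C' = Nat.card K := by
      have h1 := hC'.card_mul
      have h2 := N.card_mul_index
      rw [← h2, hNidx] at h1
      exact Nat.eq_of_mul_eq_mul_left Nat.card_pos h1
    set C0 : Subgroup G := (C'.map K0.subtype).map (cA A).subtype
    have hC0card : Nat.card C0 = Nat.card K := by
      rw [card_map_of_injective (cA A).subtype_injective, card_map_of_injective K0.subtype_injective, hC'card]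
    -- it consists of all elements of order prime to three
    have hchar : ∀ x : ↥K0, x ^ Nat.card K = 1 → x ∈ C' := by
      intro x hx
      obtain ⟨⟨⟨a, ha⟩, ⟨c, hc⟩⟩, hac : a * c = x⟩ := (hC'.existsUnique x).exists
      have hcomm : Commute a c := Subtype.ext (Subtype.ext (mem_centralizer_iff.1 (c : ↥(cA A)).2 _ ha))
      rw [← hac, hcomm.mul_pow, show c ^ Nat.card K = 1 by
        rw [← hC'card]; exact orderOf_dvd_iff_pow_eq_one.1 (Subgroup.orderOf_dvd_natCard _ hc), mul_one] at hx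
      have ha1 : a = 1 := orderOf_eq_one_iff.1 (Nat.eq_one_of_dvd_coprimes hcop.symm
        (by rw [hNidx]; exact orderOf_dvd_of_pow_eq_one hx) (Subgroup.orderOf_dvd_natCard _ ha))
      rw [← hac, ha1, one_mul]; exact hc
    have hC0 : C0 = ⊥ := by
      refine D.F.sig C0 (hC0card ▸ hK) fun j hj => ?_
      refine mem_normalizer_fintype ?_
      rintro _ ⟨_, ⟨c, hc, rfl⟩, rfl⟩
      set jc : ↥(cA A) := ⟨j, B.J_cA hj⟩
      have hin : jc * c.1 * jc⁻¹ ∈ K0 := by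
        have h1 := hinv (QuotientGroup.mk jc) ⟨jc, hj, rfl⟩
        have h2 : QuotientGroup.mk' (aC A) (jc * c.1 * jc⁻¹) ∈
            K.map (MulAut.conj (QuotientGroup.mk jc : XQ A)).toMonoidHom := ⟨_, c.2, rfl⟩
        rwa [h1] at h2
      refine ⟨jc * c.1 * jc⁻¹, ⟨⟨_, hin⟩, hchar _ (Subtype.ext ?_), rfl⟩, rfl⟩
      show (jc * c.1 * jc⁻¹) ^ Nat.card K = 1
      rw [conj_pow, ← hC'card, ← Subgroup.coe_pow,
        orderOf_dvd_iff_pow_eq_one.1 (Subgroup.orderOf_dvd_natCard _ hc), Subgroup.coe_one, mul_one, mul_inv_cancel]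
    rw [hC0, card_bot] at hC0card
    exact eq_bot_of_card_eq _ hC0card.symm

end Cfsg.Agent.U62Three.K
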